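import Groth.Agent.Lib.ProEtDC7.Criterion
import Mathlib.CategoryTheory.Limits.Shapes.BinaryBiproducts

/-!
# Closure properties of derived complete sheaves
-/

set_option autoImplicit false
set_option linter.style.haveILetI false
set_option backward.isDefEq.respectTransparency.types false
universe u

open CategoryTheory CategoryTheory.Limits AlgebraicGeometry Opposite

namespace GrothLib.ProEtDC7

variable {Λ : Type (u + 1)} [CommRing Λ] {X : Scheme.{u}}

theorem preservesFiniteColimits_ev {W : X.ProEt} (hW : ProEtS.IsWC W) : PreservesFiniteColimits (ev Λ W) := by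
  haveI : PreservesFiniteLimits (ev Λ W) :=
    haveI := (freeAdj Λ W).rightAdjoint_preservesLimits
    inferInstance
  haveI := (freeAdj Λ W).right_adjoint_additive
  haveI := preservesEpimorphisms_ev Λ hW
  have key : ∀ S : ShortComplex (EtModW.ModP Λ X), S.ShortExact → (S.map (ev Λ W)).ShortExact := fun S hS => by
    obtain ⟨he, hm⟩ := ((ev Λ W).preservesFiniteLimits_iff_forall_exact_map_and_mono).1 inferInstance S hS
    haveI := hS.epi_g
    haveI : Mono (S.map (ev Λ W)).f := hm
    haveI : Epi (S.map (ev Λ W)).g := (ev Λ W).map_epi _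
    exact { exact := he }
  have h2 : PreservesFiniteLimits (ev Λ W) ∧ PreservesFiniteColimits (ev Λ W) :=
    ((ev Λ W).exact_tfae.out 0 3).1 key
  exact h2.2

/-- Sections on a weakly contractible object turn short exact sequences into short exact sequences. -/
theorem exact_sections {W : X.ProEt} (hW : ProEtS.IsWC W) {S : ShortComplex (EtModW.ModP Λ X)} (hS : S.ShortExact) :
    Function.Injective (S.f.hom.app (op W)).hom ∧ Function.Surjective (S.g.hom.app (op W)).hom ∧
      Function.Exact (S.f.hom.app (op W)).hom (S.g.hom.app (op W)).hom := by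
  haveI : PreservesFiniteLimits (ev Λ W) :=
    haveI := (freeAdj Λ W).rightAdjoint_preservesLimits
    inferInstance
  haveI := preservesFiniteColimits_ev (Λ := Λ) hW
  haveI := (freeAdj Λ W).right_adjoint_additive
  have h := hS.map_of_exact (ev Λ W)
  haveI := h.mono_f
  haveI := h.epi_g
  exact ⟨(ModuleCat.mono_iff_injective _).1 h.mono_f, (ModuleCat.epi_iff_surjective _).1 h.epi_g,
    (ShortComplex.ShortExact.moduleCat_exact_iff_function_exact _).1 h.exact⟩

theorem isDCSheaf_of_shortExact {I : Ideal Λ} {S : ShortComplex (EtModW.ModP Λ X)} (hS : S.ShortExact)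
    (h₁ : ProEtDC.IsDCSheaf Λ I S.X₁) (h₃ : ProEtDC.IsDCSheaf Λ I S.X₃) : ProEtDC.IsDCSheaf Λ I S.X₂ := by
  refine isDCSheaf_iff.2 fun f hf W hW => ?_
  obtain ⟨ha, hb, h⟩ := exact_sections hW hS
  exact DC.of_exact_middle _ _ ha hb h (isDCSheaf_iff.1 h₁ f hf W hW) (isDCSheaf_iff.1 h₃ f hf W hW)

theorem isDCSheaf_kernel_cokernel {I : Ideal Λ} {F G : EtModW.ModP Λ X} (φ : F ⟶ G)
    (hF : ProEtDC.IsDCSheaf Λ I F) (hG : ProEtDC.IsDCSheaf Λ I G) :
    ProEtDC.IsDCSheaf Λ I (kernel φ) ∧ ProEtDC.IsDCSheaf Λ I (cokernel φ) := by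
  refine ⟨isDCSheaf_iff.2 fun f hf W hW => ?_, isDCSheaf_iff.2 fun f hf W hW => ?_⟩
  · haveI : PreservesFiniteLimits (ev Λ W) :=
      haveI := (freeAdj Λ W).rightAdjoint_preservesLimits
      inferInstance
    haveI := (freeAdj Λ W).right_adjoint_additive
    have hk := (ShortComplex.exact_of_f_is_kernel (ShortComplex.mk (kernel.ι φ) φ (kernel.condition φ)) (kernelIsKernel φ))
    have h := hk.map_of_mono_of_preservesKernel (ev Λ W) inferInstance inferInstance
    haveI : Mono ((ev Λ W).map (kernel.ι φ)) := inferInstance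
    exact DC.of_exact_left ((kernel.ι φ).hom.app (op W)).hom (φ.hom.app (op W)).hom
      ((ModuleCat.mono_iff_injective _).1 ‹_›) ((ShortComplex.ShortExact.moduleCat_exact_iff_function_exact _).1 h)
      (isDCSheaf_iff.1 hF f hf W hW) (isDCSheaf_iff.1 hG f hf W hW)
  · haveI : PreservesFiniteLimits (ev Λ W) :=
      haveI := (freeAdj Λ W).rightAdjoint_preservesLimits
      inferInstance
    haveI := preservesFiniteColimits_ev (Λ := Λ) hW
    haveI := (freeAdj Λ W).right_adjoint_additive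
    have hk := (ShortComplex.exact_of_g_is_cokernel (ShortComplex.mk φ (cokernel.π φ) (cokernel.condition φ)) (cokernelIsCokernel φ))
    have h := hk.map_of_epi_of_preservesCokernel (ev Λ W) inferInstance inferInstance
    haveI : Epi ((ev Λ W).map (cokernel.π φ)) := inferInstance
    exact DC.of_exact_right (φ.hom.app (op W)).hom ((cokernel.π φ).hom.app (op W)).hom
      ((ModuleCat.epi_iff_surjective _).1 ‹_›) ((ShortComplex.ShortExact.moduleCat_exact_iff_function_exact _).1 h)
      (isDCSheaf_iff.1 hF f hf W hW) (isDCSheaf_iff.1 hG f hf W hW)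

theorem isDCSheaf_limit {I : Ideal Λ} (D : ℕᵒᵖ ⥤ EtModW.ModP Λ X)
    (hD : ∀ n : ℕ, ProEtDC.IsDCSheaf Λ I (D.obj (op n))) : ProEtDC.IsDCSheaf Λ I (limit D) := by
  refine isDCSheaf_iff.2 fun f hf W hW => ?_
  haveI := (freeAdj Λ W).rightAdjoint_preservesLimits
  have hlim := isLimitOfPreserves (ev Λ W) (limit.isLimit D)
  have hD' : ∀ j : ℕᵒᵖ, DC f ((D.obj j).obj.obj (op W)) := fun ⟨n⟩ => isDCSheaf_iff.1 (hD n) f hf W hW
  let π : ∀ j, (limit D).obj.obj (op W) →ₗ[Λ] (D.obj j).obj.obj (op W) := fun j => ((limit.π D j).hom.app (op W)).hom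
  refine ⟨fun s t hst => funext fun n => Concrete.isLimit_ext _ hlim _ _ fun j => ?_, fun y => ?_⟩
  · exact congrFun ((hD' j).1 (a₁ := fun n => π j (s n)) (a₂ := fun n => π j (t n)) (by rw [phi_comp, phi_comp, hst])) n
  choose t ht using fun j => (hD' j).2 fun n => π j (y n)
  have hnat : ∀ {j j' : ℕᵒᵖ} (g : j ⟶ j') (n : ℕ), ((D.map g).hom.app (op W)).hom (t j n) = t j' n := by
    intro j j' g
    have h1 : (fun n => ((D.map g).hom.app (op W)).hom (t j n)) = t j' := (hD' j').1 (by
      rw [phi_comp, ht, ht]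
      refine funext fun n => ?_
      exact congrArg (fun φ : limit D ⟶ D.obj j' => φ.hom.app (op W) (y n)) (limit.w D g))
    exact congrFun h1
  have hl := isLimitOfPreserves (forget (ModuleCat.{u + 1} Λ)) hlim
  let e := Types.isLimitEquivSections hl
  let s : ℕ → (limit D).obj.obj (op W) := fun n => e.symm ⟨fun j => t j n, fun g => hnat g n⟩
  refine ⟨s, funext fun n => Concrete.isLimit_ext _ hlim _ _ fun j => ?_⟩
  have : (fun n => π j (s n)) = t j := funext fun n => Types.isLimitEquivSections_symm_apply hl _ j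
  have h2 := congrFun (phi_comp (f := f) (π j) s) n
  rw [this, ht] at h2
  exact h2.symm

theorem smulHom_constantSheaf_eq_zero (M : ModuleCat.{u + 1} Λ) (a : Λ) (ha : ∀ m : M, a • m = 0) :
    ProEtDC.smulHom Λ ((constantSheaf (Scheme.ProEt.topology X) (ModuleCat.{u + 1} Λ)).obj M) a = 0 := by
  refine (((sheafificationAdjunction (Scheme.ProEt.topology X) (ModuleCat.{u + 1} Λ))).homEquiv _ _).injective ?_
  refine NatTrans.ext (funext fun U => ModuleCat.hom_ext (LinearMap.ext fun m => ?_))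
  rw [Adjunction.homEquiv_unit, Adjunction.homEquiv_unit]
  simp only [NatTrans.comp_app]
  refine Eq.trans (b := 0) ?_ rfl
  exact ((map_smul (((sheafificationAdjunction (Scheme.ProEt.topology X) (ModuleCat.{u + 1} Λ)).unit.app
    ((Functor.const _).obj M)).app U).hom a m).symm.trans (congrArg _ (ha m))).trans (map_zero _)

theorem isDCSheaf_of_smulHom_eq_zero {I : Ideal Λ} {F : EtModW.ModP Λ X}
    (h : ∀ f ∈ I, ∃ N : ℕ, ProEtDC.smulHom Λ F (f ^ N) = 0) : ProEtDC.IsDCSheaf Λ I F := by
  refine isDCSheaf_iff.2 fun f hf W _ => ?_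
  obtain ⟨N, hN⟩ := h f hf
  exact DC.of_pow_smul_eq_zero N fun x => congrArg (fun φ : F ⟶ F => φ.hom.app (op W) x) hN

theorem isDCSheaf_lambdaHat (I : Ideal Λ) : ProEtDC.IsDCSheaf Λ I (ProEtDC.lambdaHat Λ X I) := by
  refine isDCSheaf_limit _ fun n => isDCSheaf_of_smulHom_eq_zero fun f hf => ⟨n, ?_⟩
  refine smulHom_constantSheaf_eq_zero _ _ fun m => ?_
  obtain ⟨m, rfl⟩ := Submodule.Quotient.mk_surjective _ m
  exact (Submodule.Quotient.mk_eq_zero _).2 (Submodule.smul_mem_smul (Ideal.pow_mem_pow hf n) trivial)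

theorem isZero_of_modGensIsZero {r : ℕ} (a : Fin r → Λ) (F : EtModW.ModP Λ X)
    (hF : ProEtDC.IsDCSheaf Λ (Ideal.span (Set.range a)) F) (h0 : ProEtDC.ModGensIsZero Λ a F) : IsZero F := by
  refine isZero_of_forall_wc Λ fun W hW => ?_
  haveI : Epi (biproduct.desc (fun k : Fin r => ProEtDC.smulHom Λ F (a k))) := h0
  have hs := surjective_app_of_epi Λ (biproduct.desc (fun k : Fin r => ProEtDC.smulHom Λ F (a k))) hW
  refine eq_zero_of_DC a _ (fun k => isDCSheaf_iff.1 hF (a k) (Ideal.subset_span ⟨k, rfl⟩) W hW) fun m => ?_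
  obtain ⟨z, hz⟩ := hs m
  refine ⟨fun k => (biproduct.π (fun _ : Fin r => F) k).hom.app (op W) z, ?_⟩
  haveI := (freeAdj Λ W).right_adjoint_additive
  have key : biproduct.desc (fun k : Fin r => ProEtDC.smulHom Λ F (a k)) =
      ∑ k, biproduct.π (fun _ : Fin r => F) k ≫ ProEtDC.smulHom Λ F (a k) := biproduct.desc_eq
  have h2 := congrArg (fun φ => (ev Λ W).map φ) key
  rw [(ev Λ W).map_sum] at h2
  rw [← hz]
  refine (congrArg (fun φ => φ.hom z) h2).trans ?_
  rw [ModuleCat.hom_sum, LinearMap.sum_apply]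
  rfl

end GrothLib.ProEtDC7
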