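import Groth.Agent.Lib.ProEtDC7.Derived
import Mathlib.Algebra.Homology.DerivedCategory.SingleTriangle

/-!
# An object is derived complete iff its cohomology sheaves are
-/

set_option autoImplicit false
set_option linter.style.haveILetI false
set_option backward.isDefEq.respectTransparency.types false
universe u

open CategoryTheory CategoryTheory.Limits AlgebraicGeometry Opposite CategoryTheory.Pretriangulated

namespace GrothLib.ProEtDC7

attribute [local instance] HasDerivedCategory.standard

section Projective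

universe w' v'

variable {C : Type v'} [Category.{w'} C] [Abelian C] (P : C) [Projective P]

/-- The class in degree zero of a map out of a complex concentrated there. -/
noncomputable def singleClass {M : CochainComplex C ℤ} (g : (HomologicalComplex.single C (ComplexShape.up ℤ) 0).obj P ⟶ M) :
    P ⟶ M.homology 0 :=
  (HomologicalComplex.singleObjHomologySelfIso (ComplexShape.up ℤ) 0 P).inv ≫ HomologicalComplex.homologyMap g 0

theorem singleClass_eq {M : CochainComplex C ℤ} (g : (HomologicalComplex.single C (ComplexShape.up ℤ) 0).obj P ⟶ M) :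
    singleClass P g = (HomologicalComplex.singleObjCyclesSelfIso (ComplexShape.up ℤ) 0 P).inv ≫
      HomologicalComplex.cyclesMap g 0 ≫ M.homologyπ 0 := by
  rw [singleClass, ← HomologicalComplex.homologyπ_naturality,
    ← HomologicalComplex.singleObjHomologySelfIso_hom_singleObjHomologySelfIso_inv, Category.assoc,
    Iso.inv_hom_id_assoc]

theorem exists_singleClass_eq {M : CochainComplex C ℤ} (c : P ⟶ M.homology 0) :
    ∃ g, singleClass P g = c := by
  obtain ⟨z, rfl⟩ : ∃ z : P ⟶ M.cycles 0, z ≫ M.homologyπ 0 = c := ⟨Projective.factorThru c _, Projective.factorThru_comp _ _⟩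
  refine ⟨HomologicalComplex.mkHomFromSingle (z ≫ M.iCycles 0) (fun j _ => by simp), ?_⟩
  rw [singleClass_eq, ← Category.assoc]
  congr 1
  rw [← cancel_mono (M.iCycles 0)]
  simp

theorem homotopic_zero_of_singleClass_eq_zero {M : CochainComplex C ℤ}
    (g : (HomologicalComplex.single C (ComplexShape.up ℤ) 0).obj P ⟶ M) (h : singleClass P g = 0) :
    Nonempty (Homotopy g 0) := by
  rw [singleClass_eq] at h
  let z := (HomologicalComplex.singleObjCyclesSelfIso (ComplexShape.up ℤ) 0 P).inv ≫ HomologicalComplex.cyclesMap g 0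
  have hz : z ≫ M.homologyπ 0 = 0 := by simpa [z] using h
  have hex : (ShortComplex.mk (M.toCycles (-1) 0) (M.homologyπ 0) (by simp)).Exact :=
    ShortComplex.exact_of_g_is_cokernel _ (M.homologyIsCokernel (-1) 0 (by simp))
  let w : P ⟶ M.X (-1) := hex.liftFromProjective z hz
  have hw : w ≫ M.d (-1) 0 = (HomologicalComplex.singleObjXSelf (ComplexShape.up ℤ) 0 P).inv ≫ g.f 0 := by
    have := congrArg (· ≫ M.iCycles 0) (hex.liftFromProjective_comp z hz)
    simpa [z, w] using this
  let hom : ∀ i j : ℤ, ((HomologicalComplex.single C (ComplexShape.up ℤ) 0).obj P).X i ⟶ M.X j := fun i j =>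
    if hi : i = 0 then if hj : j = -1 then
      (HomologicalComplex.singleObjXIsoOfEq (ComplexShape.up ℤ) 0 P i hi).hom ≫ w ≫ eqToHom (by rw [hj]) else 0 else 0
  refine ⟨{ hom := hom, zero := fun i j hij => ?_, comm := fun i => ?_ }⟩
  · simp only [hom]
    split_ifs with hi hj <;> try rfl
    exact absurd (show (ComplexShape.up ℤ).Rel j i by simp; omega) hij
  · rw [HomologicalComplex.zero_f, add_zero]
    by_cases hi : i = 0
    · subst hi
      rw [dNext_eq hom (show (ComplexShape.up ℤ).Rel 0 1 by simp), prevD_eq hom (show (ComplexShape.up ℤ).Rel (-1) 0 by simp)]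
      simp [hom, hw, HomologicalComplex.singleObjXSelf]
    · exact (HomologicalComplex.isZero_single_obj_X (ComplexShape.up ℤ) 0 P i hi).eq_of_src _ _

theorem isKProjective_single : CochainComplex.IsKProjective ((HomologicalComplex.single C (ComplexShape.up ℤ) 0).obj P) := by
  haveI : CochainComplex.IsStrictlyLE ((HomologicalComplex.single C (ComplexShape.up ℤ) 0).obj P) 0 :=
    (CochainComplex.isStrictlyLE_iff _ 0).2 fun i hi => HomologicalComplex.isZero_single_obj_X _ 0 P i (by omega)
  haveI : ∀ n, Projective (((HomologicalComplex.single C (ComplexShape.up ℤ) 0).obj P).X n) := fun n => by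
    by_cases hn : n = 0
    · subst hn
      exact Projective.of_iso (HomologicalComplex.singleObjXSelf (ComplexShape.up ℤ) 0 P).symm inferInstance
    · exact (HomologicalComplex.isZero_single_obj_X _ 0 P n hn).projective
  exact CochainComplex.isKProjective_of_projective _ 0

variable [HasDerivedCategory C]

theorem exists_Q_map_eq {M : CochainComplex C ℤ}
    (h : DerivedCategory.Q.obj ((HomologicalComplex.single C (ComplexShape.up ℤ) 0).obj P) ⟶ DerivedCategory.Q.obj M) :
    ∃ g, DerivedCategory.Q.map g = h := by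
  haveI := isKProjective_single P
  let e := DerivedCategory.quotientCompQhIso C
  obtain ⟨g₀, hg⟩ := (CochainComplex.IsKProjective.Qh_map_bijective _ _).2
    (e.hom.app ((HomologicalComplex.single C (ComplexShape.up ℤ) 0).obj P) ≫ h ≫ e.inv.app M)
  obtain ⟨g, rfl⟩ := (HomotopyCategory.quotient C (ComplexShape.up ℤ)).map_surjective g₀
  refine ⟨g, ?_⟩
  have := e.hom.naturality g
  simp only [Functor.comp_map] at this
  rw [hg] at this
  simp only [← Category.assoc, cancel_mono] at this ⊢
  simp only [Category.assoc, Iso.inv_hom_id_app, Category.comp_id] at this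
  exact (cancel_epi (e.hom.app ((HomologicalComplex.single C (ComplexShape.up ℤ) 0).obj P))).1 (by simpa using this.symm)

theorem singleClass_eq_zero_of_Q_map_eq_zero {M : CochainComplex C ℤ}
    (g : (HomologicalComplex.single C (ComplexShape.up ℤ) 0).obj P ⟶ M) (h : DerivedCategory.Q.map g = 0) :
    singleClass P g = 0 := by
  haveI := isKProjective_single P
  let e := DerivedCategory.quotientCompQhIso C
  have hq : DerivedCategory.Qh.map ((HomotopyCategory.quotient C (ComplexShape.up ℤ)).map g) =
      DerivedCategory.Qh.map 0 := by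
    have := e.hom.naturality g
    simp only [Functor.comp_map] at this
    rw [h, comp_zero] at this
    rw [Functor.map_zero, ← cancel_mono (e.hom.app M), this, zero_comp]
  have h0 := (CochainComplex.IsKProjective.Qh_map_bijective _ _).1 hq
  have hh : Homotopy g 0 := HomotopyCategory.homotopyOfEq _ _ (h0.trans (Functor.map_zero _ _ _).symm)
  rw [singleClass, hh.homologyMap_eq, HomologicalComplex.homologyMap_zero, comp_zero]

theorem bijective_singleClass_comp {M M' : CochainComplex C ℤ} (φ : M ⟶ M')
    (h : Function.Bijective (fun a : DerivedCategory.Q.obj ((HomologicalComplex.single C (ComplexShape.up ℤ) 0).obj P) ⟶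
      DerivedCategory.Q.obj M => a ≫ DerivedCategory.Q.map φ)) :
    Function.Bijective (fun c : P ⟶ M.homology 0 => c ≫ HomologicalComplex.homologyMap φ 0) := by
  have hcomp : ∀ g, singleClass P g ≫ HomologicalComplex.homologyMap φ 0 = singleClass P (g ≫ φ) := fun g => by
    simp [singleClass, HomologicalComplex.homologyMap_comp]
  refine ⟨fun a b hab => ?_, fun c => ?_⟩
  · obtain ⟨ga, rfl⟩ := exists_singleClass_eq P a
    obtain ⟨gb, rfl⟩ := exists_singleClass_eq P b
    have h0 : singleClass P ((ga - gb) ≫ φ) = 0 := by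
      rw [← hcomp]
      simp only [singleClass, HomologicalComplex.homologyMap_sub, Preadditive.comp_sub, Preadditive.sub_comp]
      exact sub_eq_zero.2 hab
    obtain ⟨H⟩ := homotopic_zero_of_singleClass_eq_zero P _ h0
    have : DerivedCategory.Q.map (ga - gb) = 0 := h.1 (by
      show _ ≫ _ = _ ≫ _
      rw [zero_comp, ← Functor.map_comp, DerivedCategory.Q_map_eq_of_homotopy C H, Functor.map_zero])
    have := singleClass_eq_zero_of_Q_map_eq_zero P _ this
    simp only [singleClass, HomologicalComplex.homologyMap_sub, Preadditive.comp_sub] at this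
    exact sub_eq_zero.1 this
  · obtain ⟨g, rfl⟩ := exists_singleClass_eq P c
    obtain ⟨a, ha⟩ := h.2 (DerivedCategory.Q.map g)
    obtain ⟨g', rfl⟩ := exists_Q_map_eq P a
    refine ⟨singleClass P g', ?_⟩
    have : DerivedCategory.Q.map (g' ≫ φ - g) = 0 := by
      rw [Functor.map_sub, Functor.map_comp]
      exact sub_eq_zero.2 ha
    have := singleClass_eq_zero_of_Q_map_eq_zero P _ this
    simp only [singleClass, HomologicalComplex.homologyMap_sub, Preadditive.comp_sub] at this
    exact (hcomp g').trans (sub_eq_zero.1 this)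

end Projective

variable {Λ : Type (u + 1)} [CommRing Λ] {X : Scheme.{u}}

local notation "𝒜" => EtModW.ModP Λ X
local notation "R'" => natProd (Λ := Λ) (X := X)
local notation "H" => DerivedCategory.homologyFunctor (EtModW.ModP Λ X)

theorem isIso_dPhi_congr (f : Λ) {K L : ProEtDC.DP Λ X} (e : K ≅ L) : IsIso (dPhi f K) ↔ IsIso (dPhi f L) := by
  have hn : ∀ {K L : ProEtDC.DP Λ X} (φ : K ⟶ L), dPhi f K ≫ (R').mapDerivedCategory.map φ =
      (R').mapDerivedCategory.map φ ≫ dPhi f L := fun {K L} φ => by
    unfold dPhi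
    rw [← dAdj.homEquiv_naturality_right, ← dAdj.homEquiv_naturality_left, Category.assoc,
      (dPsi f).naturality_assoc]
    congr 2
    exact (dAdj.counit.naturality φ).symm
  rw [show dPhi f L = (R').mapDerivedCategory.map e.inv ≫ dPhi f K ≫ (R').mapDerivedCategory.map e.hom by
      rw [hn, ← Functor.map_comp_assoc, e.inv_hom_id, CategoryTheory.Functor.map_id, Category.id_comp],
    isIso_comp_left_iff, isIso_comp_right_iff]

/-- Cohomology of a preimage complex. -/
noncomputable def preimageHomologyIso (K : ProEtDC.DP Λ X) (n : ℤ) :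
    ((DerivedCategory.Q (C := 𝒜)).objPreimage K).homology n ≅ (H n).obj K :=
  ((DerivedCategory.homologyFunctorFactors 𝒜 n).app _).symm ≪≫
    (H n).mapIso ((DerivedCategory.Q (C := 𝒜)).objObjPreimageIso K)

theorem isIso_dPhi_iff (f : Λ) (K : ProEtDC.DP Λ X) :
    IsIso (dPhi f K) ↔ ∀ n : ℤ, DCwc f ((H n).obj K) := by
  rw [← isIso_dPhi_congr f ((DerivedCategory.Q (C := 𝒜)).objObjPreimageIso K), isIso_dPhi_Q_iff]
  exact forall_congr' fun n => (isIso_phiNat_congr f (preimageHomologyIso K n)).trans (DCwc_iff_isIso_phiNat f _).symm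

theorem Hom_locExt_eq_zero (f : Λ) (U : X.ProEt) (K : ProEtDC.DP Λ X) (hK : ∀ n : ℤ, DCwc f ((H n).obj K))
    (x : (DerivedCategory.singleFunctor 𝒜 0).obj ((free Λ U).obj (ModuleCat.of Λ (Localization.Away f))) ⟶ K) : x = 0 := by
  have hS := shortExact_free_awaySeq U f
  have hb : ∀ L : ProEtDC.DP Λ X, (∀ n : ℤ, DCwc f ((H n).obj L)) →
      Function.Bijective (fun h : (DerivedCategory.singleFunctor 𝒜 0).obj ((awaySeq f).map (free Λ U)).X₂ ⟶ L =>
        (DerivedCategory.singleFunctor 𝒜 0).map ((awaySeq f).map (free Λ U)).f ≫ h) := by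
    intro L hL
    haveI := (isIso_dPhi_iff f L).2 hL
    have h1 := (bijective_single_psi_iff f ((free Λ U).obj (one Λ)) L).2 (asIso (dPhi f L)).homToEquiv.bijective
    haveI := isIso_sumToPoly (Λ := Λ) U
    let ε := (asIso (DerivedCategory.Q.map (sc0.map (sumToPoly (Λ := Λ) U)))).symm.homFromEquiv (Z := L)
    have he : ε ∘ (fun h => DerivedCategory.Q.map (sc0.map ((free Λ U).map (ModuleCat.ofHom (awayF f)))) ≫ h) =
        (fun h => DerivedCategory.Q.map (sc0.map (psi f ((free Λ U).obj (one Λ)))) ≫ h) ∘ ε := funext fun h => by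
      simp only [ε, Function.comp_apply, Iso.homFromEquiv_apply, Iso.symm_inv, asIso_hom]
      rw [← Functor.map_comp_assoc, ← Functor.map_comp, ← psi_sumToPoly, Functor.map_comp, Functor.map_comp, Category.assoc]
    have h2 := h1.comp ε.bijective
    rw [← he] at h2
    exact (Function.Bijective.of_comp_iff' ε.bijective _).1 h2
  let x' : hS.singleTriangle.obj₃ ⟶ K := x
  suffices x' = 0 from this
  have hx : hS.singleTriangle.mor₂ ≫ x' = 0 := (hb K hK).1 (by
    show (DerivedCategory.singleFunctor 𝒜 0).map _ ≫ _ ≫ x' = _ ≫ 0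
    rw [comp_zero]
    exact (comp_distTriang_mor_zero₁₂_assoc _ hS.singleTriangle_distinguished x').trans zero_comp)
  obtain ⟨y, hy⟩ := Triangle.yoneda_exact₃ _ hS.singleTriangle_distinguished x' hx
  have hK' : ∀ n : ℤ, DCwc f ((H n).obj (K⟦(-1 : ℤ)⟧)) := fun n => by
    refine (DCwc_iff_isIso_phiNat f _).2 ((isIso_phiNat_congr f (((H 0).shiftIso (-1) n (n + -1) (by omega)).app K)).2 ?_)
    exact (DCwc_iff_isIso_phiNat f _).1 (hK _)
  let c : (K⟦(-1 : ℤ)⟧)⟦(1 : ℤ)⟧ ≅ K := (shiftFunctorCompIsoId (ProEtDC.DP Λ X) (-1 : ℤ) 1 (by omega)).app K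
  obtain ⟨y₀, hy₀⟩ := (shiftFunctor (ProEtDC.DP Λ X) (1 : ℤ)).map_surjective (y ≫ c.inv)
  obtain ⟨y₁, rfl⟩ := (hb _ hK').2 y₀
  have : y = (shiftFunctor (ProEtDC.DP Λ X) (1 : ℤ)).map hS.singleTriangle.mor₁ ≫
      (shiftFunctor (ProEtDC.DP Λ X) (1 : ℤ)).map y₁ ≫ c.hom := by
    rw [← Functor.map_comp_assoc]
    exact ((Iso.comp_inv_eq c).1 hy₀.symm)
  rw [hy, this]
  exact (comp_distTriang_mor_zero₃₁_assoc _ hS.singleTriangle_distinguished _).trans zero_comp

theorem isDC_of_cohomology {I : Ideal Λ} (K : ProEtDC.DP Λ X) (h : ∀ p : ℤ, ProEtDC.IsDCSheaf Λ I (ProEtDC.HDP K p)) :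
    ProEtDC.IsDC Λ I K := by
  intro U f hf n
  refine subsingleton_of_forall_eq 0 fun x => ?_
  have hK : ∀ m : ℤ, DCwc f ((H m).obj (K⟦n⟧)) := fun m => by
    refine (DCwc_iff_isIso_phiNat f _).2 ((isIso_phiNat_congr f (((H 0).shiftIso n m (m + n) (by omega)).app K)).2 ?_)
    exact (DCwc_iff_isIso_phiNat f _).1 (isDCSheaf_iff.1 (h _) f hf)
  let e := (DerivedCategory.singleFunctor 𝒜 0).mapIso (locExtIso Λ U f)
  have := Hom_locExt_eq_zero f U (K⟦n⟧) hK (e.inv ≫ x)
  rw [← Category.id_comp x, ← e.hom_inv_id, Category.assoc, this, comp_zero]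

theorem cohomology_of_isDC {I : Ideal Λ} (K : ProEtDC.DP Λ X) (h : ProEtDC.IsDC Λ I K) (p : ℤ) :
    ProEtDC.IsDCSheaf Λ I (ProEtDC.HDP K p) := by
  refine isDCSheaf_iff.2 fun f hf => ?_
  let L : ProEtDC.DP Λ X := K⟦p⟧
  let M := (DerivedCategory.Q (C := 𝒜)).objPreimage L
  let eM := (DerivedCategory.Q (C := 𝒜)).objObjPreimageIso L
  suffices hiso : IsIso ((phiNat f).app (M.homology 0)) by
    refine (DCwc_iff_isIso_phiNat f _).2 ?_
    refine (isIso_phiNat_congr f ?_).1 hiso
    exact preimageHomologyIso L 0 ≪≫ ((H 0).shiftIso p 0 p (by omega)).app K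
  let Φc := (NatTrans.mapHomologicalComplex (phiNat f) (ComplexShape.up ℤ)).app M
  have hΦ : IsIso (HomologicalComplex.homologyMap Φc 0) := by
    refine isIso_of_bijective_comp _ fun W hW => ?_
    haveI := projective_free Λ hW (one Λ)
    haveI : Projective (one Λ) := ModuleCat.projective_of_free (Module.Basis.singleton PUnit.{u + 2} Λ)
    haveI := projective_free Λ hW (one Λ)
    refine bijective_singleClass_comp _ Φc ?_
    have hS := shortExact_free_awaySeq W f
    have hz : ∀ n : ℤ, ∀ x : hS.singleTriangle.obj₃ ⟶ L⟦n⟧, x = 0 := fun n x => by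
      let x' : (DerivedCategory.singleFunctor 𝒜 0).obj ((free Λ W).obj (ModuleCat.of Λ (Localization.Away f))) ⟶ L⟦n⟧ := x
      suffices x' = 0 from this
      let e := (DerivedCategory.singleFunctor 𝒜 0).mapIso (locExtIso Λ W f)
      let c := (shiftFunctorAdd' (ProEtDC.DP Λ X) p n (p + n) rfl).app K
      have := (h W f hf (p + n)).elim (e.hom ≫ x' ≫ c.inv) 0
      rw [← cancel_epi e.hom, comp_zero, ← cancel_mono c.inv, zero_comp, Category.assoc]
      exact this
    have hb : Function.Bijective (fun a : hS.singleTriangle.obj₂ ⟶ L => hS.singleTriangle.mor₁ ≫ a) := by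
      refine ⟨fun a b hab => ?_, fun y => ?_⟩
      · obtain ⟨g, hg⟩ := Triangle.yoneda_exact₂ _ hS.singleTriangle_distinguished (a - b)
          (by rw [Preadditive.comp_sub]; exact sub_eq_zero.2 hab)
        have h0 := hz 0 (g ≫ (shiftFunctorZero (ProEtDC.DP Λ X) ℤ).inv.app L)
        rw [← cancel_mono ((shiftFunctorZero (ProEtDC.DP Λ X) ℤ).hom.app L), Category.assoc, Iso.inv_hom_id_app, zero_comp] at h0
        rw [show g = 0 from (Category.comp_id g).symm.trans h0, comp_zero] at hg
        exact sub_eq_zero.1 hg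
      · let y' := (shiftFunctor (ProEtDC.DP Λ X) (1 : ℤ)).map y
        have hy : hS.singleTriangle.mor₃ ≫ y' = 0 := hz 1 _
        obtain ⟨g, hg⟩ := Triangle.yoneda_exact₂ _ (rot_of_distTriang _ (rot_of_distTriang _ hS.singleTriangle_distinguished)) y' hy
        obtain ⟨g₀, rfl⟩ := (shiftFunctor (ProEtDC.DP Λ X) (1 : ℤ)).map_surjective g
        let g₁ : hS.singleTriangle.obj₂ ⟶ L := g₀
        refine ⟨-g₁, (shiftFunctor (ProEtDC.DP Λ X) (1 : ℤ)).map_injective ?_⟩
        refine (Functor.map_comp _ _ _).trans ?_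
        rw [Functor.map_neg]
        refine (Preadditive.comp_neg _ _).trans ?_
        refine Eq.trans ?_ hg.symm
        exact (Preadditive.neg_comp _ _).symm
    -- transport to the sum and to products
    haveI := isIso_sumToPoly (Λ := Λ) W
    let ε := (asIso (DerivedCategory.Q.map (sc0.map (sumToPoly (Λ := Λ) W)))).symm.homFromEquiv (Z := L)
    have he : (fun h => DerivedCategory.Q.map (sc0.map (psi f ((free Λ W).obj (one Λ)))) ≫ h) ∘ ε =
        ε ∘ (fun h => DerivedCategory.Q.map (sc0.map ((free Λ W).map (ModuleCat.ofHom (awayF f)))) ≫ h) := funext fun h => by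
      simp only [ε, Function.comp_apply, Iso.homFromEquiv_apply, Iso.symm_inv, asIso_hom]
      rw [← Functor.map_comp_assoc, ← Functor.map_comp, psi_sumToPoly, Functor.map_comp, Functor.map_comp, Category.assoc]
    have h1 := ε.bijective.comp hb
    have h2 : Function.Bijective (fun h => DerivedCategory.Q.map (sc0.map (psi f ((free Λ W).obj (one Λ)))) ≫ h) :=
      (Function.Bijective.of_comp_iff _ ε.bijective).1 (he ▸ h1)
    have h3 := (bijective_single_psi_iff f _ L).1 h2
    -- move to the complex
    let b : (R').mapDerivedCategory.obj L ≅ DerivedCategory.Q.obj (((R').mapHomologicalComplex (ComplexShape.up ℤ)).obj M) :=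
      (R').mapDerivedCategory.mapIso eM.symm ≪≫ (R').mapDerivedCategoryFactors.app M
    have hn : dPhi f L ≫ b.hom = b.hom ≫ DerivedCategory.Q.map Φc := by
      have hh : dPhi f L ≫ (R').mapDerivedCategory.map eM.inv = (R').mapDerivedCategory.map eM.inv ≫ dPhi f (DerivedCategory.Q.obj M) := by
        unfold dPhi
        rw [← dAdj.homEquiv_naturality_right, ← dAdj.homEquiv_naturality_left, Category.assoc, (dPsi f).naturality_assoc]
        congr 2
        exact (dAdj.counit.naturality eM.inv).symm
      simp only [b, Iso.trans_hom, Functor.mapIso_hom, Iso.symm_hom, Iso.app_hom]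
      rw [reassoc_of% hh, dPhi_Q, Category.assoc, Category.assoc, Category.assoc, Iso.inv_hom_id_app]
      erw [Category.comp_id]
    have h4 : (fun a => a ≫ DerivedCategory.Q.map Φc) ∘ b.homToEquiv =
        b.homToEquiv ∘ (fun a : DerivedCategory.Q.obj (sc0.obj ((free Λ W).obj (one Λ))) ⟶ _ => a ≫ dPhi f L) :=
      funext fun a => by
        show (a ≫ b.hom) ≫ DerivedCategory.Q.map Φc = (a ≫ dPhi f L) ≫ b.hom
        rw [Category.assoc, Category.assoc, hn]
    have h5 := b.homToEquiv.bijective.comp h3
    rw [← h4] at h5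
    exact (Function.Bijective.of_comp_iff _ b.homToEquiv.bijective).1 h5
  have e : HomologicalComplex.homologyMap Φc 0 =
      ((M.sc 0).mapHomologyIso R').hom ≫ (phiNat f).app (M.sc 0).homology ≫ ((M.sc 0).mapHomologyIso R').inv :=
    ShortComplex.homologyMap_mapNatTrans (M.sc 0) (phiNat f)
  have hΦ' : IsIso (((M.sc 0).mapHomologyIso R').hom ≫ (phiNat f).app (M.sc 0).homology ≫
      ((M.sc 0).mapHomologyIso R').inv) := by exact e ▸ hΦ
  exact (isIso_comp_right_iff ((phiNat f).app (M.sc 0).homology) _).1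
    ((isIso_comp_left_iff ((M.sc 0).mapHomologyIso R').hom _).1 hΦ')

end GrothLib.ProEtDC7
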