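import Groth.Agent.Lib.ProEtDC7.Apps

/-!
# Countable products of sheaves and the operator dual to `psi`
-/

set_option autoImplicit false
set_option linter.style.haveILetI false
set_option backward.isDefEq.respectTransparency.types false
universe u

open CategoryTheory CategoryTheory.Limits AlgebraicGeometry Opposite

namespace GrothLib.ProEtDC7

variable {Λ : Type (u + 1)} [CommRing Λ] {X : Scheme.{u}}

/-- Countable products. -/
noncomputable def natProd : EtModW.ModP Λ X ⥤ EtModW.ModP Λ X :=
  Functor.const (Discrete (ULift.{u + 1} ℕ)) ⋙ lim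

/-- Sums are left adjoint to products. -/
noncomputable def natAdj : natSum (Λ := Λ) (X := X) ⊣ natProd :=
  (constLimAdj (J := Discrete (ULift.{u + 1} ℕ))).comp colimConstAdj

instance : (natSum (Λ := Λ) (X := X)).Additive where
  map_add {_ _} _ _ := natSum_ext fun n => by
    rw [inj_map, Preadditive.comp_add, inj_map, inj_map, Preadditive.add_comp]

instance : (natProd (Λ := Λ) (X := X)).Additive := natAdj.right_adjoint_additive

instance preservesFiniteLimits_natSum : PreservesFiniteLimits (natSum (Λ := Λ) (X := X)) := by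
  haveI : AB4OfSize.{u + 1} (EtModW.ModP Λ X) := AB4.of_AB5 _
  haveI : PreservesFiniteLimits (colim : (Discrete (ULift.{u + 1} ℕ) ⥤ EtModW.ModP Λ X) ⥤ _) :=
    HasExactColimitsOfShape.preservesFiniteLimits
  exact comp_preservesFiniteLimits _ _

instance preservesFiniteColimits_natSum : PreservesFiniteColimits (natSum (Λ := Λ) (X := X)) :=
  haveI := (natAdj (Λ := Λ) (X := X)).leftAdjoint_preservesColimits
  inferInstance

instance preservesFiniteLimits_natProd : PreservesFiniteLimits (natProd (Λ := Λ) (X := X)) :=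
  haveI := (natAdj (Λ := Λ) (X := X)).rightAdjoint_preservesLimits
  inferInstance

instance preservesEpimorphisms_natProd : (natProd (Λ := Λ) (X := X)).PreservesEpimorphisms where
  preserves {G G'} φ _ := by
    let π := coverπ Λ (natProd.obj G')
    haveI : Projective (natSum.obj (cover Λ (natProd.obj G'))) := projective_natSum _
    let h := (natAdj.homEquiv _ _).symm π
    let k := Projective.factorThru h φ
    have e : natAdj.homEquiv _ _ k ≫ natProd.map φ = π := by
      rw [← natAdj.homEquiv_naturality_right, Projective.factorThru_comp, Equiv.apply_symm_apply]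
    exact epi_of_epi_fac e

instance preservesFiniteColimits_natProd : PreservesFiniteColimits (natProd (Λ := Λ) (X := X)) := by
  have key : ∀ S : ShortComplex (EtModW.ModP Λ X), S.ShortExact → (S.map (natProd (Λ := Λ) (X := X))).ShortExact :=
    fun S hS => by
    obtain ⟨he, hm⟩ := ((natProd (Λ := Λ) (X := X)).preservesFiniteLimits_iff_forall_exact_map_and_mono).1 inferInstance S hS
    haveI := hS.epi_g
    haveI : Mono (S.map (natProd (Λ := Λ) (X := X))).f := hm
    haveI : Epi (S.map (natProd (Λ := Λ) (X := X))).g := (natProd (Λ := Λ) (X := X)).map_epi _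
    exact { exact := he }
  have h2 : PreservesFiniteLimits (natProd (Λ := Λ) (X := X)) ∧ PreservesFiniteColimits (natProd (Λ := Λ) (X := X)) :=
    ((natProd (Λ := Λ) (X := X)).exact_tfae.out 0 3).1 key
  exact h2.2

/-- `psi` as a natural transformation. -/
noncomputable def psiNat (f : Λ) : natSum (Λ := Λ) (X := X) ⟶ natSum where
  app G := psi f G
  naturality _ _ φ := (psi_natural f φ).symm

/-- The operator on products dual to `psi`. -/
noncomputable def phiNat (f : Λ) : natProd (Λ := Λ) (X := X) ⟶ natProd where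
  app F := natAdj.homEquiv _ _ (psi f (natProd.obj F) ≫ natAdj.counit.app F)
  naturality F F' φ := by
    rw [← natAdj.homEquiv_naturality_right, ← natAdj.homEquiv_naturality_left, Category.assoc,
      ← reassoc_of% (psi_natural f (natProd.map φ))]
    congr 2
    exact natAdj.counit.naturality φ

theorem homEquiv_psi_comp (f : Λ) {G F : EtModW.ModP Λ X} (h : natSum.obj G ⟶ F) :
    natAdj.homEquiv _ _ (psi f G ≫ h) = natAdj.homEquiv _ _ h ≫ (phiNat f).app F := by
  obtain ⟨h', rfl⟩ := (natAdj.homEquiv G F).symm.surjective h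
  rw [Equiv.apply_symm_apply]
  show _ = h' ≫ natAdj.homEquiv _ _ (psi f (natProd.obj F) ≫ natAdj.counit.app F)
  rw [← natAdj.homEquiv_naturality_left, natAdj.homEquiv_counit, reassoc_of% (psi_natural f h')]
  rfl

theorem isIso_of_bijective_comp {F G : EtModW.ModP Λ X} (φ : F ⟶ G)
    (h : ∀ W : X.ProEt, ProEtS.IsWC W → Function.Bijective (fun a : (free Λ W).obj (one Λ) ⟶ F => a ≫ φ)) :
    IsIso φ := by
  haveI : Mono φ := by
    refine ⟨fun {Z} a b hab => ?_⟩
    refine (cancel_epi (coverπ Λ Z)).1 (Sigma.hom_ext _ _ fun i => (h i.1.1 i.1.2).1 ?_)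
    simp only [Category.assoc, hab]
  haveI : Epi φ := by
    let k : cover Λ G ⟶ F := Sigma.desc fun i => (Equiv.ofBijective _ (h i.1.1 i.1.2)).symm ((freeOneEquiv Λ i.1.1 G).symm i.2)
    have e : k ≫ φ = coverπ Λ G := Sigma.hom_ext _ _ fun i => by
      simp only [k, coverπ, colimit.ι_desc_assoc, colimit.ι_desc, Cofan.mk_ι_app]
      exact (Equiv.ofBijective _ (h i.1.1 i.1.2)).apply_symm_apply _
    exact epi_of_epi_fac e
  exact isIso_of_mono_of_epi φ

theorem DC_of_bijective_psi {f : Λ} {F : EtModW.ModP Λ X} (U : X.ProEt)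
    (h : Function.Bijective (fun a : natSum.obj ((free Λ U).obj (one Λ)) ⟶ F => psi f _ ≫ a)) :
    DC f (F.obj.obj (op U)) := by
  haveI := isIso_sumToPoly (Λ := Λ) U
  let ε : ((free Λ U).obj (ModuleCat.of Λ (Polynomial Λ)) ⟶ F) ≃ (natSum.obj ((free Λ U).obj (one Λ)) ⟶ F) :=
    ((asIso (sumToPoly (Λ := Λ) U)).symm.homFromEquiv)
  have hb : Function.Bijective (fun a : (free Λ U).obj (ModuleCat.of Λ (Polynomial Λ)) ⟶ F =>
      (free Λ U).map (ModuleCat.ofHom (awayF f)) ≫ a) := by
    have : (fun a => (free Λ U).map (ModuleCat.ofHom (awayF f)) ≫ a) = ε.symm ∘ (fun a => psi f _ ≫ a) ∘ ε := funext fun a => by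
      refine (Equiv.eq_symm_apply ε).2 ?_
      simp [ε, reassoc_of% (psi_sumToPoly U f)]
    rw [this]
    exact ε.symm.bijective.comp (h.comp ε.bijective)
  rw [DC_iff_bijective_comp]
  let e := ((freeAdj Λ U).homEquiv (ModuleCat.of Λ (Polynomial Λ)) F).trans ModuleCat.homEquiv
  have : (fun g : Polynomial Λ →ₗ[Λ] F.obj.obj (op U) => g ∘ₗ awayF f) ∘ e =
      e ∘ (fun h => (free Λ U).map (ModuleCat.ofHom (awayF f)) ≫ h) := funext fun h => by
    simp only [e, Function.comp_apply, Equiv.trans_apply, Adjunction.homEquiv_naturality_left]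
    rfl
  have hh := e.bijective.comp hb
  rw [← this] at hh
  exact (Function.Bijective.of_comp_iff _ e.bijective).1 hh

theorem DCwc_iff_isIso_phiNat (f : Λ) (F : EtModW.ModP Λ X) : DCwc f F ↔ IsIso ((phiNat f).app F) := by
  have key : ∀ G : EtModW.ModP Λ X, Function.Bijective (fun h : natSum.obj G ⟶ F => psi f G ≫ h) ↔
      Function.Bijective (fun h : G ⟶ natProd.obj F => h ≫ (phiNat f).app F) := fun G => by
    rw [← Function.Bijective.of_comp_iff' (natAdj.homEquiv G F).bijective,
      ← Function.Bijective.of_comp_iff _ (natAdj.homEquiv G F).bijective]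
    constructor <;> intro h <;> convert h using 1 <;> funext a <;> simp [homEquiv_psi_comp]
  refine ⟨fun h => isIso_of_bijective_comp _ fun W _ => (key _).1 (bijective_psi_comp h _), fun h W hW => ?_⟩
  exact DC_of_bijective_psi W ((key _).2 ((asIso ((phiNat f).app F)).homToEquiv.bijective))

end GrothLib.ProEtDC7
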