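import Groth.Agent.Lib.ProEtDC7.Sum
import Groth.Agent.Lib.ProEtDC7.Apps
import Groth.Agent.Lib.ProEtDC7.NatProd
import Mathlib.RingTheory.Finiteness.Cardinality
import Mathlib.Algebra.Homology.ShortComplex.PreservesHomology

/-!
# Extending maps from the constant sheaf to the completed constant sheaf
-/

set_option autoImplicit false
set_option linter.style.haveILetI false
set_option linter.unusedSectionVars false
set_option backward.isDefEq.respectTransparency.types false
universe u v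

open CategoryTheory CategoryTheory.Limits AlgebraicGeometry Opposite

namespace GrothLib.ProEtDC7

section ExactFunctor

variable {R : Type v} [CommRing R] (L : ModuleCat.{v} R ⥤ ModuleCat.{v} R) [L.Additive] [PreservesFiniteLimits L]
  [PreservesFiniteColimits L]
  (hL : ∀ (r : R) (x : L.obj (ModuleCat.of R R)), (L.map (ModuleCat.ofHom (r • LinearMap.id))).hom x = r • x)

theorem map_exact_apply {S : ShortComplex (ModuleCat.{v} R)} (hS : S.Exact) {x : L.obj S.X₂}
    (hx : (L.map S.g).hom x = 0) : ∃ y, (L.map S.f).hom y = x :=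
  (ShortComplex.moduleCat_exact_iff _).1 (hS.map L) x hx

variable {ι : Type} [Fintype ι] [DecidableEq ι]

theorem map_single_proj (y : L.obj (ModuleCat.of R (ι → R))) :
    ∑ i, (L.map (ModuleCat.ofHom (LinearMap.single R (fun _ => R) i))).hom
      ((L.map (ModuleCat.ofHom (LinearMap.proj (φ := fun _ : ι => R) i))).hom y) = y := by
  have e : (∑ i, ModuleCat.ofHom (LinearMap.proj (φ := fun _ : ι => R) i) ≫
      ModuleCat.ofHom (LinearMap.single R (fun _ => R) i)) = 𝟙 (ModuleCat.of R (ι → R)) := by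
    refine ModuleCat.hom_ext (LinearMap.ext fun v => ?_)
    rw [ModuleCat.hom_sum, LinearMap.sum_apply]
    exact Finset.univ_sum_single v
  have := congrArg (fun φ => (L.map φ).hom y) e
  simp only [L.map_sum, ModuleCat.hom_sum, LinearMap.sum_apply, L.map_comp, CategoryTheory.Functor.map_id] at this
  exact this

include hL in
theorem map_scalar (T : ModuleCat.of R R ⟶ ModuleCat.of R R) (x : L.obj (ModuleCat.of R R)) :
    (L.map T).hom x = T.hom (1 : R) • x := by
  have : T = ModuleCat.ofHom (T.hom (1 : R) • LinearMap.id) :=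
    ModuleCat.hom_ext (LinearMap.ext_ring (by simp))
  conv_lhs => rw [this]
  exact hL _ _

include hL in
theorem exists_of_quot_eq_zero (m : ι → R) (x : L.obj (ModuleCat.of R R)) {J : Ideal R}
    (hJ : J = Ideal.span (Set.range m))
    (hx : (L.map (ModuleCat.ofHom (Submodule.mkQ J))).hom x = 0) :
    ∃ c : ι → L.obj (ModuleCat.of R R), x = ∑ i, m i • c i := by
  let f : ModuleCat.of R (ι → R) ⟶ ModuleCat.of R R := ModuleCat.ofHom (Fintype.linearCombination R m)
  have hrange : LinearMap.range (Fintype.linearCombination R m) = J := by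
    rw [hJ, Fintype.range_linearCombination]
  have hzero : f ≫ ModuleCat.ofHom (Submodule.mkQ J) = 0 :=
    ModuleCat.hom_ext (LinearMap.ext fun v => (Submodule.Quotient.mk_eq_zero J).2 (hrange ▸ ⟨v, rfl⟩))
  have hS : (ShortComplex.mk f (ModuleCat.ofHom (Submodule.mkQ J)) hzero).Exact :=
    (ShortComplex.moduleCat_exact_iff _).2 fun y hy => by
      have : y ∈ LinearMap.range (Fintype.linearCombination R m) := by
        rw [hrange]; exact (Submodule.Quotient.mk_eq_zero J).1 hy
      exact this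
  obtain ⟨y, rfl⟩ := map_exact_apply L hS hx
  refine ⟨fun i => (L.map (ModuleCat.ofHom (LinearMap.proj (φ := fun _ : ι => R) i))).hom y, ?_⟩
  conv_lhs => rw [← map_single_proj L y]
  rw [map_sum]
  refine Finset.sum_congr rfl fun i _ => ?_
  rw [← LinearMap.comp_apply, ← ModuleCat.hom_comp, ← L.map_comp, map_scalar L hL]
  congr 1
  simp [f, Fintype.linearCombination_apply_single]

include hL in
theorem exists_of_relation [IsNoetherianRing R] (m : ι → R) (z : ι → L.obj (ModuleCat.of R R))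
    (hz : ∑ i, m i • z i = 0) :
    ∃ (N : ℕ) (v : Fin N → ι → R), (∀ j, ∑ i, v j i * m i = 0) ∧
      ∃ c : Fin N → L.obj (ModuleCat.of R R), ∀ i, z i = ∑ j, v j i • c j := by
  let f₀ : (ι → R) →ₗ[R] R := Fintype.linearCombination R m
  obtain ⟨N, φ, hφ⟩ := Module.Finite.exists_fin' R (LinearMap.ker f₀)
  let f : ModuleCat.of R (Fin N → R) ⟶ ModuleCat.of R (ι → R) :=
    ModuleCat.ofHom ((LinearMap.ker f₀).subtype.comp φ)
  have hS : (ShortComplex.mk f (ModuleCat.ofHom f₀) (ModuleCat.hom_ext (LinearMap.ext fun v => (φ v).2))).Exact :=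
    (ShortComplex.moduleCat_exact_iff _).2 fun y hy => by
      obtain ⟨v, hv⟩ := hφ ⟨y, hy⟩
      exact ⟨v, congrArg Subtype.val hv⟩
  let z' : L.obj (ModuleCat.of R (ι → R)) :=
    ∑ i, (L.map (ModuleCat.ofHom (LinearMap.single R (fun _ => R) i))).hom (z i)
  have hz' : (L.map (ModuleCat.ofHom f₀)).hom z' = 0 := by
    rw [map_sum, ← hz]
    refine Finset.sum_congr rfl fun i _ => ?_
    rw [← LinearMap.comp_apply, ← ModuleCat.hom_comp, ← L.map_comp, map_scalar L hL]
    congr 1
    simp [f₀, Fintype.linearCombination_apply_single]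
  obtain ⟨y, hy⟩ := map_exact_apply L hS hz'
  refine ⟨N, fun j => (φ (Pi.single j 1)).1, fun j => ?_, fun j =>
    (L.map (ModuleCat.ofHom (LinearMap.proj (φ := fun _ : Fin N => R) j))).hom y, fun i => ?_⟩
  · have := (φ (Pi.single j 1)).2
    simpa only [LinearMap.mem_ker, f₀, Fintype.linearCombination_apply, smul_eq_mul] using this
  · have h1 : (L.map (ModuleCat.ofHom (LinearMap.proj (φ := fun _ : ι => R) i))).hom z' = z i := by
      rw [map_sum, Finset.sum_eq_single i (fun k _ hk => ?_) (by simp)]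
      · rw [← LinearMap.comp_apply, ← ModuleCat.hom_comp, ← L.map_comp, map_scalar L hL]
        simp
      · rw [← LinearMap.comp_apply, ← ModuleCat.hom_comp, ← L.map_comp, map_scalar L hL]
        simp [Pi.single_eq_of_ne hk.symm]
    rw [← h1, ← hy]
    conv_lhs => rw [← map_single_proj L y]
    rw [map_sum, map_sum]
    refine Finset.sum_congr rfl fun j _ => ?_
    rw [← LinearMap.comp_apply, ← LinearMap.comp_apply, ← ModuleCat.hom_comp, ← ModuleCat.hom_comp,
      ← L.map_comp, ← L.map_comp, map_scalar L hL]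
    rfl

include hL in
/-- Relations in `L R` between monomials come from the finitely many syzygies. -/
theorem exists_syzygy_lift [IsNoetherianRing R] {r : ℕ} (a : Fin r → R) :
    ∃ (k : ℕ) (d : Fin k → ℕ) (G : Fin k → (Fin r → ℕ) → R), (∀ j, ∑ σ ∈ layer r (d j), G j σ * mon a σ = 0) ∧
      ∀ z : (Fin r → ℕ) → L.obj (ModuleCat.of R R), (∀ n, ∑ ν ∈ layer r n, mon a ν • z ν = 0) →
        ∃ w : Fin k → (Fin r → ℕ) → L.obj (ModuleCat.of R R), z = ∑ j, pmul (d j) (G j) (w j) := by
  classical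
  obtain ⟨k, d, G, hG, hgen⟩ := exists_syzygies a
  refine ⟨k, d, G, hG, fun z hz => ?_⟩
  have key : ∀ n, ∃ w : Fin k → (Fin r → ℕ) → L.obj (ModuleCat.of R R),
      ∀ ν ∈ layer r n, z ν = ∑ j, pmul (d j) (G j) (w j) ν := fun n => by
    have hn := hz n
    rw [← Finset.sum_attach] at hn
    obtain ⟨e⟩ : Nonempty (Fin (layer r n).card ≃ {ν // ν ∈ layer r n}) := ⟨(layer r n).equivFin.symm⟩
    obtain ⟨N, v, hv, c, hc⟩ := exists_of_relation L hL (fun i => mon a (e i).1) (fun i => z (e i).1)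
      ((Equiv.sum_comp e fun x => mon a x.1 • z x.1).trans hn)
    let V : Fin N → (Fin r → ℕ) → R := fun q ν => if h : ν ∈ layer r n then v q (e.symm ⟨ν, h⟩) else 0
    choose w hw using fun q => hgen n (V q) (by
      rw [← Finset.sum_attach]
      refine ((Equiv.sum_comp e fun x => V q x.1 * mon a x.1).symm.trans ?_)
      refine (Finset.sum_congr rfl fun i _ => ?_).trans (hv q)
      simp [V, (e i).2])
    refine ⟨fun j μ => ∑ q, w q j μ • c q, fun ν hν => ?_⟩
    have h1 := hc (e.symm ⟨ν, hν⟩)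
    simp only [Equiv.apply_symm_apply] at h1
    have h2 : ∀ q, v q (e.symm ⟨ν, hν⟩) = ∑ j, pmul (d j) (G j) (w q j) ν := fun q => by
      rw [← hw q ν hν]; simp [V, hν]
    rw [h1]
    simp only [h2, pmul_apply, Finset.sum_smul]
    rw [Finset.sum_comm]
    refine Finset.sum_congr rfl fun j _ => ?_
    rw [Finset.sum_comm]
    refine Finset.sum_congr rfl fun σ _ => ?_
    split_ifs with h
    · rw [Finset.smul_sum]
      simp [smul_smul]
    · simp
  choose w hw using key
  refine ⟨fun j μ => w (wt μ + d j) j μ, funext fun ν => ?_⟩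
  rw [hw _ ν (mem_layer.2 rfl), Finset.sum_apply]
  refine Finset.sum_congr rfl fun j _ => ?_
  simp only [pmul_apply]
  refine Finset.sum_congr rfl fun σ hσ => ?_
  split_ifs with h
  · have := wt_add (ν - σ) σ
    rw [sub_add_of_le h, mem_layer.1 hσ] at this
    rw [this]
  · rfl

end ExactFunctor

variable (Λ : Type (u + 1)) [CommRing Λ] {X : Scheme.{u}}

/-- The constant sheaf functor. -/
noncomputable abbrev cstF (X : Scheme.{u}) : ModuleCat.{u + 1} Λ ⥤ EtModW.ModP Λ X :=
  constantSheaf (Scheme.ProEt.topology X) (ModuleCat.{u + 1} Λ)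

/-- The constant sheaf on one generator. -/
noncomputable abbrev cOne (X : Scheme.{u}) : EtModW.ModP Λ X := (cstF Λ X).obj (ModuleCat.of Λ Λ)

theorem smulHom_app (F : EtModW.ModP Λ X) (b : Λ) (U : X.ProEtᵒᵖ) (x : F.obj.obj U) :
    (ProEtDC.smulHom Λ F b).hom.app U x = b • x := rfl

theorem constantSheaf_map_smul (M : ModuleCat.{u + 1} Λ) (b : Λ) :
    (cstF Λ X).map (ModuleCat.ofHom (b • LinearMap.id : M →ₗ[Λ] M)) = ProEtDC.smulHom Λ ((cstF Λ X).obj M) b := by
  refine (((sheafificationAdjunction (Scheme.ProEt.topology X) (ModuleCat.{u + 1} Λ))).homEquiv _ _).injective ?_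
  refine NatTrans.ext (funext fun U => ModuleCat.hom_ext (LinearMap.ext fun m => ?_))
  rw [Adjunction.homEquiv_unit, Adjunction.homEquiv_unit]
  have h := congrArg (fun φ => (φ.app U).hom m)
    ((sheafificationAdjunction (Scheme.ProEt.topology X) (ModuleCat.{u + 1} Λ)).unit.naturality
      ((Functor.const X.ProEtᵒᵖ).map (ModuleCat.ofHom (b • LinearMap.id : M →ₗ[Λ] M))))
  refine h.symm.trans ?_
  exact map_smul (((sheafificationAdjunction (Scheme.ProEt.topology X) (ModuleCat.{u + 1} Λ)).unit.app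
    ((Functor.const _).obj M)).app U).hom b m

section Extend

variable {r : ℕ} (a : Fin r → Λ) {F : EtModW.ModP Λ X}
  (hF : ProEtDC.IsDCSheaf Λ (Ideal.span (Set.range a)) F)

local notation "I" => Ideal.span (Set.range a)

/-- Power series with coefficients in the constant sheaf. -/
noncomputable abbrev seqSheaf : EtModW.ModP Λ X :=
  ∏ᶜ fun _ : (Fin r → ℕ) => (cOne Λ X)

/-- The coefficient of a power series. -/
noncomputable abbrev coeffHom (ν : Fin r → ℕ) : seqSheaf Λ (r := r) (X := X) ⟶ (cOne Λ X) :=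
  Pi.π (fun _ : (Fin r → ℕ) => (cOne Λ X)) ν

/-- Partial sums modulo a power of the ideal. -/
noncomputable def partialHom (n : ℕ) :
    seqSheaf Λ (r := r) (X := X) ⟶ (ProEtDC.quotTower Λ I ⋙ cstF Λ X).obj (op n) :=
  (∑ k ∈ Finset.range n, ∑ ν ∈ layer r k, coeffHom Λ ν ≫ ProEtDC.smulHom Λ (cOne Λ X) (mon a ν)) ≫
    (cstF Λ X).map (ModuleCat.ofHom (Submodule.mkQ (I ^ n • ⊤ : Submodule Λ Λ)))

theorem mon_mem {n : ℕ} {ν : Fin r → ℕ} (h : ν ∈ layer r n) : mon a ν ∈ I ^ n := by
  rw [← span_mon_eq_pow]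
  exact Ideal.subset_span ⟨ν, h, rfl⟩

theorem smulHom_comp_mkQ (b : Λ) {n : ℕ} (hb : b ∈ I ^ n) :
    ProEtDC.smulHom Λ (cOne Λ X) b ≫ (cstF Λ X).map (ModuleCat.ofHom (Submodule.mkQ (I ^ n • ⊤ : Submodule Λ Λ))) = 0 := by
  rw [← constantSheaf_map_smul, ← Functor.map_comp, ← (cstF Λ X).map_zero]
  congr 1
  refine ModuleCat.hom_ext (LinearMap.ext fun m => (Submodule.Quotient.mk_eq_zero _).2 ?_)
  exact Submodule.smul_mem_smul hb trivial

theorem partialHom_comp {m n : ℕ} (hmn : m ≤ n) :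
    partialHom Λ a n ≫ (ProEtDC.quotTower Λ I ⋙ cstF Λ X).map (homOfLE hmn).op = partialHom Λ a (X := X) m := by
  unfold partialHom
  have e : ModuleCat.ofHom (Submodule.mkQ (I ^ n • ⊤ : Submodule Λ Λ)) ≫ (ProEtDC.quotTower Λ I).map (homOfLE hmn).op =
      ModuleCat.ofHom (Submodule.mkQ (I ^ m • ⊤ : Submodule Λ Λ)) := ModuleCat.hom_ext (LinearMap.ext fun x => rfl)
  rw [Category.assoc, Functor.comp_map, ← Functor.map_comp]
  erw [e]
  rw [Preadditive.sum_comp, Preadditive.sum_comp,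
    ← Finset.sum_range_add_sum_Ico _ hmn]
  refine (add_eq_left).2 (Finset.sum_eq_zero fun k hk => ?_)
  rw [Preadditive.sum_comp]
  refine Finset.sum_eq_zero fun ν hν => ?_
  rw [Category.assoc]
  exact (congrArg (coeffHom Λ ν ≫ ·) (smulHom_comp_mkQ Λ a _
    (Ideal.pow_le_pow_right (Finset.mem_Ico.1 hk).1 (mon_mem Λ a hν)))).trans comp_zero

/-- Summation of power series in the completed constant sheaf. -/
noncomputable def toHat : seqSheaf Λ (r := r) (X := X) ⟶ ProEtDC.lambdaHat Λ X I :=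
  limit.lift _ ⟨seqSheaf Λ (r := r) (X := X),
    { app := fun j => partialHom Λ a j.unop
      naturality := fun i j h => (Category.id_comp _).trans (partialHom_comp Λ a (leOfHom h.unop)).symm }⟩

theorem toHat_π (n : ℕ) : toHat Λ a (X := X) ≫ limit.π _ (op n) = partialHom Λ a n := limit.lift_π _ _

theorem sectionsFunctor_smul (W : X.ProEt) (b : Λ) (x : ((cstF Λ X) ⋙ ev Λ W).obj (ModuleCat.of Λ Λ)) :
    (((cstF Λ X) ⋙ ev Λ W).map (ModuleCat.ofHom (b • LinearMap.id))).hom x = b • x :=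
  congrArg (fun φ : (cOne Λ X) ⟶ (cOne Λ X) => φ.hom.app (op W) x) (constantSheaf_map_smul Λ (ModuleCat.of Λ Λ) b)

theorem preservesFiniteLimits_sectionsFunctor (W : X.ProEt) : PreservesFiniteLimits ((cstF Λ X) ⋙ ev Λ W) := by
  haveI := (freeAdj Λ W).rightAdjoint_preservesLimits
  haveI : PreservesFiniteLimits (cstF Λ X) := by
    unfold cstF constantSheaf
    haveI : PreservesFiniteLimits (Functor.const X.ProEtᵒᵖ : ModuleCat.{u + 1} Λ ⥤ _) := inferInstance
    infer_instance
  infer_instance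

theorem preservesFiniteColimits_sectionsFunctor {W : X.ProEt} (hW : ProEtS.IsWC W) :
    PreservesFiniteColimits ((cstF Λ X) ⋙ ev Λ W) := by
  haveI := preservesFiniteColimits_ev (Λ := Λ) hW
  haveI : PreservesFiniteColimits (cstF Λ X) := by
    unfold cstF constantSheaf
    haveI : PreservesFiniteColimits (Functor.const X.ProEtᵒᵖ : ModuleCat.{u + 1} Λ ⥤ _) := inferInstance
    haveI := (sheafificationAdjunction (Scheme.ProEt.topology X) (ModuleCat.{u + 1} Λ)).leftAdjoint_preservesColimits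
    infer_instance
  infer_instance

theorem exists_seq_section (W : X.ProEt) (c : (Fin r → ℕ) → ((cOne Λ X)).obj.obj (op W)) :
    ∃ x : (seqSheaf Λ (r := r) (X := X)).obj.obj (op W), ∀ ν, (coeffHom Λ ν).hom.app (op W) x = c ν := by
  refine ⟨freeOneEquiv Λ W _ (Pi.lift fun ν => (freeOneEquiv Λ W (cOne Λ X)).symm (c ν)), fun ν => ?_⟩
  rw [← freeOneEquiv_comp, Pi.lift_π, Equiv.apply_symm_apply]

theorem lambdaHat_section_ext {W : X.ProEt} {x y : (ProEtDC.lambdaHat Λ X I).obj.obj (op W)}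
    (h : ∀ n : ℕ, (limit.π (ProEtDC.quotTower Λ I ⋙ cstF Λ X) (op n)).hom.app (op W) x =
      (limit.π (ProEtDC.quotTower Λ I ⋙ cstF Λ X) (op n)).hom.app (op W) y) : x = y := by
  refine (freeOneEquiv Λ W _).symm.injective (limit.hom_ext fun ⟨n⟩ => (freeOneEquiv Λ W _).injective ?_)
  simp only [freeOneEquiv_comp, Equiv.apply_symm_apply]
  exact h n

theorem sum_app {F G : EtModW.ModP Λ X} {ι : Type*} (s : Finset ι) (φ : ι → (F ⟶ G)) (W : X.ProEt)
    (x : F.obj.obj (op W)) : (∑ i ∈ s, φ i).hom.app (op W) x = ∑ i ∈ s, (φ i).hom.app (op W) x := by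
  haveI := (freeAdj Λ W).right_adjoint_additive
  refine (congrArg (fun ψ => ψ.hom x) ((ev Λ W).map_sum φ s)).trans ?_
  rw [ModuleCat.hom_sum, LinearMap.sum_apply]
  rfl

theorem partialHom_app (W : X.ProEt) (x : (seqSheaf Λ (r := r) (X := X)).obj.obj (op W)) (n : ℕ) :
    (partialHom Λ a n).hom.app (op W) x =
      (((cstF Λ X) ⋙ ev Λ W).map (ModuleCat.ofHom (Submodule.mkQ (I ^ n • ⊤ : Submodule Λ Λ)))).hom
        (partialSum a (fun ν => (coeffHom Λ ν).hom.app (op W) x) n) := by
  refine congrArg (fun y => (((cstF Λ X) ⋙ ev Λ W).map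
    (ModuleCat.ofHom (Submodule.mkQ (I ^ n • ⊤ : Submodule Λ Λ)))).hom y) ?_
  refine (sum_app Λ _ _ W x).trans (Finset.sum_congr rfl fun k _ => ?_)
  exact sum_app Λ _ _ W x

theorem exists_layer_of_mkQ_eq_zero {W : X.ProEt} (hW : ProEtS.IsWC W) (n : ℕ) (x : ((cOne Λ X)).obj.obj (op W))
    (hx : (((cstF Λ X) ⋙ ev Λ W).map (ModuleCat.ofHom (Submodule.mkQ (I ^ n • ⊤ : Submodule Λ Λ)))).hom x = 0) :
    ∃ e : (Fin r → ℕ) → ((cOne Λ X)).obj.obj (op W), x = ∑ ν ∈ layer r n, mon a ν • e ν := by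
  classical
  haveI := preservesFiniteLimits_sectionsFunctor Λ W
  haveI := preservesFiniteColimits_sectionsFunctor Λ hW
  haveI : ((cstF Λ X) ⋙ ev Λ W).Additive := Functor.additive_of_preserves_binary_products _
  obtain ⟨e⟩ : Nonempty (Fin (layer r n).card ≃ {ν // ν ∈ layer r n}) := ⟨(layer r n).equivFin.symm⟩
  have hspan : (I ^ n • ⊤ : Submodule Λ Λ) = Ideal.span (Set.range fun i => mon a (e i).1) := by
    rw [Ideal.smul_eq_mul, Ideal.mul_top, ← span_mon_eq_pow]
    congr 1
    ext y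
    exact ⟨fun ⟨ν, hν, h⟩ => ⟨e.symm ⟨ν, hν⟩, by simpa using h⟩, fun ⟨i, h⟩ => ⟨_, (e i).2, h⟩⟩
  obtain ⟨c, hc⟩ := exists_of_quot_eq_zero ((cstF Λ X) ⋙ ev Λ W) (sectionsFunctor_smul Λ W) (fun i => mon a (e i).1) x
    hspan hx
  refine ⟨fun ν => if h : ν ∈ layer r n then c (e.symm ⟨ν, h⟩) else 0, hc.trans ?_⟩
  rw [← Finset.sum_attach (layer r n)]
  refine ((Finset.sum_congr rfl fun i _ => ?_).trans (Equiv.sum_comp e fun y =>
    mon a y.1 • if h : y.1 ∈ layer r n then c (e.symm ⟨y.1, h⟩) else 0))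
  simp [(e i).2]

theorem surjective_toHat {W : X.ProEt} (hW : ProEtS.IsWC W) :
    Function.Surjective ((toHat Λ a (X := X)).hom.app (op W)) := by
  intro x
  haveI := preservesFiniteLimits_sectionsFunctor Λ W
  haveI := preservesFiniteColimits_sectionsFunctor Λ hW
  let L := (cstF Λ X) ⋙ ev Λ W
  let q : ∀ n : ℕ, ModuleCat.of Λ Λ ⟶ (ProEtDC.quotTower Λ I).obj (op n) := fun n =>
    ModuleCat.ofHom (Submodule.mkQ (I ^ n • ⊤ : Submodule Λ Λ))
  let xn : ∀ n : ℕ, L.obj ((ProEtDC.quotTower Λ I).obj (op n)) := fun n =>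
    (limit.π (ProEtDC.quotTower Λ I ⋙ cstF Λ X) (op n)).hom.app (op W) x
  have hepi : ∀ n, Function.Surjective (L.map (q n)).hom := fun n => by
    haveI : Epi (q n) := (ModuleCat.epi_iff_surjective _).2 (Submodule.mkQ_surjective _)
    exact (ModuleCat.epi_iff_surjective _).1 inferInstance
  have hx0 : xn 0 = 0 := by
    haveI : L.Additive := Functor.additive_of_preserves_binary_products _
    have hz : IsZero ((ProEtDC.quotTower Λ I).obj (op 0)) := by
      haveI hs : Subsingleton (Λ ⧸ (I ^ 0 • ⊤ : Submodule Λ Λ)) := ⟨fun z w => by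
        obtain ⟨z, rfl⟩ := Submodule.Quotient.mk_surjective _ z
        obtain ⟨w, rfl⟩ := Submodule.Quotient.mk_surjective _ w
        exact (Submodule.Quotient.eq _).2 (by simp)⟩
      exact @ModuleCat.isZero_of_subsingleton _ _ ((ProEtDC.quotTower Λ I).obj (op 0)) hs
    exact (ModuleCat.subsingleton_of_isZero (L.map_isZero hz)).elim _ _
  choose y' hy' using fun n => hepi n (xn n)
  let y : ℕ → L.obj (ModuleCat.of Λ Λ) := fun n => if n = 0 then 0 else y' n
  have hy : ∀ n, (L.map (q n)).hom (y n) = xn n := fun n => by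
    rcases Nat.eq_zero_or_pos n with hn | hn
    · subst hn
      simp [y, hx0]
    · simp [y, hn.ne', hy']
  have hdiff : ∀ n, ∃ e : (Fin r → ℕ) → ((cOne Λ X)).obj.obj (op W), y (n + 1) - y n = ∑ ν ∈ layer r n, mon a ν • e ν := by
    intro n
    refine exists_layer_of_mkQ_eq_zero Λ a hW n _ ?_
    have e : q (n + 1) ≫ (ProEtDC.quotTower Λ I).map (homOfLE n.le_succ).op = q n :=
      ModuleCat.hom_ext (LinearMap.ext fun _ => rfl)
    have h1 : (L.map ((ProEtDC.quotTower Λ I).map (homOfLE n.le_succ).op)).hom (xn (n + 1)) = xn n :=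
      congrArg (fun φ : ProEtDC.lambdaHat Λ X I ⟶ _ => φ.hom.app (op W) x)
        (limit.w (ProEtDC.quotTower Λ I ⋙ cstF Λ X) (homOfLE n.le_succ).op)
    show (L.map (q n)).hom _ = 0
    rw [map_sub, hy]
    conv_lhs => arg 1; rw [← e, L.map_comp, ModuleCat.hom_comp, LinearMap.comp_apply, hy]
    rw [h1, sub_self]
  choose e he using hdiff
  obtain ⟨s, hs⟩ := exists_seq_section Λ W fun ν => e (wt ν) ν
  refine ⟨s, lambdaHat_section_ext Λ a fun n => ?_⟩
  refine (congrArg (fun φ => φ.hom.app (op W) s) (toHat_π Λ a n)).trans ?_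
  refine (partialHom_app Λ a W s n).trans (Eq.trans ?_ (hy n))
  refine congrArg (L.map (q n)).hom ?_
  simp only [partialSum, hs]
  have : ∀ k, ∑ ν ∈ layer r k, mon a ν • e (wt ν) ν = y (k + 1) - y k := fun k => by
    rw [he]
    exact Finset.sum_congr rfl fun ν hν => by rw [mem_layer.1 hν]
  simp only [this, Finset.sum_range_sub y]
  simp [y]

theorem epi_toHat : Epi (toHat Λ a (X := X)) := ⟨fun {Z} p p' h => by
  refine eq_of_forall_wc Λ fun W hW => ModuleCat.hom_ext (LinearMap.ext fun x => ?_)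
  obtain ⟨s, rfl⟩ := surjective_toHat Λ a hW x
  exact congrArg (fun φ => φ.hom.app (op W) s) h⟩

variable {a}

include hF in
theorem DC_sections (U : X.ProEtᵒᵖ) (k : Fin r) : DC (a k) (F.obj.obj U) :=
  DC_sections_of_isDCSheaf hF (Ideal.subset_span ⟨k, rfl⟩) U.unop

/-- Summation of a power series with coefficients pushed to a derived complete sheaf. -/
noncomputable def sumHom (g : (cOne Λ X) ⟶ F) : seqSheaf Λ (r := r) (X := X) ⟶ F :=
  ⟨{ app := fun U => ModuleCat.ofHom ((sumM a (DC_sections Λ hF U)).comp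
      (LinearMap.pi fun ν => (g.hom.app U).hom.comp ((coeffHom Λ ν).hom.app U).hom))
     naturality := fun U V h => ModuleCat.hom_ext (LinearMap.ext fun x => by
      refine Eq.trans ?_ (sumM_natural a (DC_sections Λ hF U) (DC_sections Λ hF V) (F.obj.map h).hom _).symm
      refine congrArg (sumM a (DC_sections Λ hF V)) (funext fun ν => ?_)
      exact congrArg (fun φ => φ.hom x) ((coeffHom Λ ν ≫ g).hom.naturality h)) }⟩

theorem kernel_toHat_sumHom [IsNoetherianRing Λ] (g : (cOne Λ X) ⟶ F) :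
    kernel.ι (toHat Λ a (X := X)) ≫ sumHom Λ hF g = 0 := by
  refine eq_of_forall_wc Λ fun W hW => ModuleCat.hom_ext (LinearMap.ext fun s => ?_)
  haveI := preservesFiniteLimits_sectionsFunctor Λ W
  haveI := preservesFiniteColimits_sectionsFunctor Λ hW
  haveI : ((cstF Λ X) ⋙ ev Λ W).Additive := Functor.additive_of_preserves_binary_products _
  obtain ⟨k, d, G, hG, hsyz⟩ := exists_syzygy_lift ((cstF Λ X) ⋙ ev Λ W) (sectionsFunctor_smul Λ W) a
  let x := (kernel.ι (toHat Λ a (X := X))).hom.app (op W) s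
  refine sumM_eq_zero a (DC_sections Λ hF (op W)) (g.hom.app (op W)).hom d G hG hsyz
    (fun ν => (coeffHom Λ ν).hom.app (op W) x) fun n => exists_layer_of_mkQ_eq_zero Λ a hW n _ ?_
  rw [← partialHom_app, ← toHat_π]
  exact congrArg (fun φ => (limit.π (ProEtDC.quotTower Λ I ⋙ cstF Λ X) (op n)).hom.app (op W) ((φ.hom.app (op W)).hom s))
    (kernel.condition (toHat Λ a (X := X))) |>.trans (map_zero _)

/-- A section of a derived complete sheaf over the final object is in the image of a map from `Λ^∧`. -/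
theorem exists_hom_lambdaHat [IsNoetherianRing Λ] {T : X.ProEt} (hT : IsTerminal T) (hF' : ProEtDC.IsDCSheaf Λ I F)
    (s : F.obj.obj (op T)) :
    ∃ (φ : ProEtDC.lambdaHat Λ X I ⟶ F) (x : (ProEtDC.lambdaHat Λ X I).obj.obj (op T)), φ.hom.app (op T) x = s := by
  classical
  let adj := constantSheafAdj (Scheme.ProEt.topology X) (ModuleCat.{u + 1} Λ) hT
  let m₀ : ModuleCat.of Λ Λ ⟶ F.obj.obj (op T) := ModuleCat.ofHom (LinearMap.toSpanSingleton Λ _ s)
  let g : (cOne Λ X) ⟶ F := (adj.homEquiv _ _).symm m₀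
  let one' : ((cOne Λ X)).obj.obj (op T) := (adj.unit.app (ModuleCat.of Λ Λ)).hom (1 : Λ)
  have hg : g.hom.app (op T) one' = s := by
    have h := (adj.homEquiv _ F).apply_symm_apply m₀
    rw [Adjunction.homEquiv_unit] at h
    exact (congrArg (fun φ => φ.hom (1 : Λ)) h).trans (one_smul Λ s)
  haveI := epi_toHat Λ a (X := X)
  have hk := kernel_toHat_sumHom Λ hF' g
  let φ := (Abelian.epiIsCokernelOfKernel _ (kernelIsKernel (toHat Λ a (X := X)))).desc
    (CokernelCofork.ofπ (sumHom Λ hF' g) hk)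
  have hφ : toHat Λ a (X := X) ≫ φ = sumHom Λ hF' g :=
    (Abelian.epiIsCokernelOfKernel _ (kernelIsKernel (toHat Λ a (X := X)))).fac _ WalkingParallelPair.one
  obtain ⟨w, hw⟩ := exists_seq_section Λ (r := r) T fun ν => if ν = 0 then one' else 0
  refine ⟨φ, (toHat Λ a).hom.app (op T) w, (congrArg (fun ψ => ψ.hom.app (op T) w) hφ).trans ?_⟩
  refine Eq.trans ?_ (sumM_single a (DC_sections Λ hF' (op T)) s)
  refine congrArg (sumM a (DC_sections Λ hF' (op T))) (funext fun ν => ?_)
  show g.hom.app (op T) ((coeffHom Λ ν).hom.app (op T) w) = _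
  rw [hw]
  split_ifs
  · exact hg
  · exact map_zero _

end Extend

end GrothLib.ProEtDC7
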