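import Mathlib.RingTheory.Localization.Away.AdjoinRoot
import Mathlib.RingTheory.Ideal.Span
import Mathlib.Algebra.Module.Submodule.Pointwise
import Mathlib.Algebra.Exact.Basic
import Mathlib.Algebra.Polynomial.Module.Basic
import Mathlib.Algebra.BigOperators.Fin
import Mathlib.Algebra.Polynomial.Basis

/-!
# Derived completeness of modules, through sequences
-/

set_option autoImplicit false
universe u v w

open Polynomial

namespace GrothLib.ProEtDC7

variable {R : Type u} [CommRing R]

/-- The map whose bijectivity says `RHom(R_f, M) = 0`. -/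
def phi (f : R) (M : Type v) [AddCommGroup M] [Module R M] : (ℕ → M) →ₗ[R] (ℕ → M) where
  toFun s n := s n - f • s (n + 1)
  map_add' s t := by ext n; simp only [Pi.add_apply, smul_add]; abel
  map_smul' r s := by ext n; simp only [Pi.smul_apply, RingHom.id_apply, smul_sub, smul_comm f r]

@[simp] theorem phi_apply (f : R) {M : Type v} [AddCommGroup M] [Module R M] (s : ℕ → M) (n : ℕ) :
    phi f M s n = s n - f • s (n + 1) := rfl

/-- Derived completeness of a module with respect to one element. -/
def DC (f : R) (M : Type v) [AddCommGroup M] [Module R M] : Prop := Function.Bijective (phi f M)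

variable {f : R} {A : Type v} {B : Type w} {C : Type*} [AddCommGroup A] [Module R A] [AddCommGroup B] [Module R B]
  [AddCommGroup C] [Module R C]

theorem phi_comp (a : A →ₗ[R] B) (s : ℕ → A) : phi f B (fun n => a (s n)) = fun n => a (phi f A s n) := by
  ext n; simp

theorem DC.of_injective_left (a : A →ₗ[R] B) (ha : Function.Injective a) (hB : DC f B) :
    Function.Injective (phi f A) := fun s t h => by
  have := hB.1 (a₁ := fun n => a (s n)) (a₂ := fun n => a (t n)) (by rw [phi_comp, phi_comp, h])
  exact funext fun n => ha (congrFun this n)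

theorem DC.of_surjective_right (b : A →ₗ[R] B) (hb : Function.Surjective b) (hA : DC f A) :
    Function.Surjective (phi f B) := fun y => by
  choose x hx using fun n => hb (y n)
  obtain ⟨s, hs⟩ := hA.2 x
  exact ⟨fun n => b (s n), by rw [phi_comp, hs]; exact funext hx⟩

theorem DC.range (a : A →ₗ[R] B) (hA : DC f A) (hB : DC f B) : DC f (LinearMap.range a) :=
  ⟨DC.of_injective_left (LinearMap.range a).subtype Subtype.val_injective hB,
    DC.of_surjective_right a.rangeRestrict a.surjective_rangeRestrict hA⟩

/-- The left term of an exact sequence. -/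
theorem DC.of_exact_left (a : A →ₗ[R] B) (b : B →ₗ[R] C) (ha : Function.Injective a) (h : Function.Exact a b)
    (hB : DC f B) (hC : DC f C) : DC f A := by
  refine ⟨DC.of_injective_left a ha hB, fun y => ?_⟩
  obtain ⟨s, hs⟩ := hB.2 fun n => a (y n)
  have hz : (fun n => b (s n)) = 0 := hC.1 (by
    rw [phi_comp, hs, map_zero]
    exact funext fun n => h.apply_apply_eq_zero (y n))
  choose t ht using fun n => (h (s n)).1 (congrFun hz n)
  refine ⟨t, funext fun n => ha ?_⟩
  have := congrFun (phi_comp (f := f) a t) n
  rw [show (fun n => a (t n)) = s from funext ht, hs] at this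
  exact this.symm

/-- The right term of an exact sequence. -/
theorem DC.of_exact_right (a : A →ₗ[R] B) (b : B →ₗ[R] C) (hb : Function.Surjective b) (h : Function.Exact a b)
    (hA : DC f A) (hB : DC f B) : DC f C := by
  refine ⟨(injective_iff_map_eq_zero _).2 fun t ht => ?_, DC.of_surjective_right b hb hB⟩
  choose s hs using fun n => hb (t n)
  have h0 : ∀ n, b (phi f B s n) = 0 := fun n => by
    have := congrFun (phi_comp (f := f) b s) n
    rw [show (fun n => b (s n)) = t from funext hs, ht] at this
    exact this.symm
  choose x hx using fun n => (h _).1 (h0 n)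
  obtain ⟨x', hx'⟩ := hA.2 x
  have : (fun n => a (x' n)) = s := hB.1 (by rw [phi_comp, hx']; exact funext hx)
  exact funext fun n => by rw [← hs n, ← congrFun this n, h.apply_apply_eq_zero]; rfl

/-- The middle term of an exact sequence. -/
theorem DC.of_exact_middle (a : A →ₗ[R] B) (b : B →ₗ[R] C) (ha : Function.Injective a) (hb : Function.Surjective b)
    (h : Function.Exact a b) (hA : DC f A) (hC : DC f C) : DC f B := by
  refine ⟨(injective_iff_map_eq_zero _).2 fun s hs => ?_, fun y => ?_⟩
  · have hz : (fun n => b (s n)) = 0 := hC.1 (by rw [phi_comp, hs, map_zero]; exact funext fun n => map_zero b)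
    choose t ht using fun n => (h (s n)).1 (congrFun hz n)
    have : t = 0 := hA.1 (funext fun n => ha (by
      have := congrFun (phi_comp (f := f) a t) n
      rw [show (fun n => a (t n)) = s from funext ht, hs] at this
      rw [map_zero, Pi.zero_apply, map_zero]
      exact this.symm))
    exact funext fun n => by rw [← ht n, this, Pi.zero_apply, map_zero]; rfl
  · obtain ⟨t, ht⟩ := hC.2 fun n => b (y n)
    choose s hs using fun n => hb (t n)
    have h0 : ∀ n, b (y n - phi f B s n) = 0 := fun n => by
      have := congrFun (phi_comp (f := f) b s) n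
      rw [show (fun n => b (s n)) = t from funext hs, ht] at this
      rw [map_sub, ← this, sub_self]
    choose x hx using fun n => (h _).1 (h0 n)
    obtain ⟨x', hx'⟩ := hA.2 x
    refine ⟨s + fun n => a (x' n), ?_⟩
    rw [map_add, phi_comp, hx']
    ext n
    rw [Pi.add_apply, hx n, add_sub_cancel]

theorem DC.of_linearEquiv (e : A ≃ₗ[R] B) (h : DC f A) : DC f B :=
  ⟨DC.of_injective_left e.symm.toLinearMap e.symm.injective h, DC.of_surjective_right e.toLinearMap e.surjective h⟩

/-- A module killed by a power of `f` is derived complete for `f`. -/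
theorem DC.of_pow_smul_eq_zero (N : ℕ) (hN : ∀ x : A, f ^ N • x = 0) : DC f A := by
  refine ⟨(injective_iff_map_eq_zero _).2 fun s hs => funext fun n => ?_, fun y => ?_⟩
  · have h : ∀ j, s n = f ^ j • s (n + j) := fun j => by
      induction j with
      | zero => simp
      | succ j ih =>
        have := congrFun hs (n + j)
        rw [phi_apply, Pi.zero_apply, sub_eq_zero] at this
        rw [ih, this, smul_smul, ← pow_succ, Nat.add_assoc]
    rw [h N, hN]
    rfl
  · refine ⟨fun n => ∑ j ∈ Finset.range N, f ^ j • y (n + j), funext fun n => ?_⟩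
    rw [phi_apply, Finset.smul_sum]
    simp only [smul_smul, ← pow_succ']
    have h1 := Finset.sum_range_succ (fun j => f ^ j • y (n + j)) N
    rw [Finset.sum_range_succ' (fun j => f ^ j • y (n + j)) N] at h1
    simp only [pow_zero, one_smul, add_zero, hN] at h1
    rw [← h1]
    simp [add_comm, add_left_comm]

/-- Derived Nakayama. -/
theorem eq_zero_of_DC {r : ℕ} (a : Fin r → R) (M : Type v) [AddCommGroup M] [Module R M]
    (hM : ∀ k, DC (a k) M) (hsurj : ∀ m : M, ∃ x : Fin r → M, m = ∑ k, a k • x k) : ∀ m : M, m = 0 := by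
  induction r generalizing M with
  | zero =>
    intro m
    obtain ⟨x, hx⟩ := hsurj m
    simpa using hx
  | succ r ih =>
    let l : M →ₗ[R] M := LinearMap.lsmul R M (a 0)
    have hq : ∀ k, DC (a k) (M ⧸ LinearMap.range l) := fun k =>
      DC.of_exact_right (LinearMap.range l).subtype (Submodule.mkQ _) (Submodule.mkQ_surjective _)
        (LinearMap.exact_subtype_mkQ _) (DC.range l (hM k) (hM k)) (hM k)
    have hz := ih (fun k => a k.succ) _ (fun k => hq k.succ) fun m => by
      obtain ⟨m, rfl⟩ := Submodule.mkQ_surjective _ m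
      obtain ⟨x, hx⟩ := hsurj m
      refine ⟨fun k => Submodule.mkQ _ (x k.succ), ?_⟩
      rw [hx, Fin.sum_univ_succ, map_add, map_sum]
      simp only [map_smul]
      rw [show a 0 • Submodule.mkQ (LinearMap.range l) (x 0) = 0 by
        rw [← map_smul]
        exact (Submodule.Quotient.mk_eq_zero _).2 ⟨x 0, rfl⟩, zero_add]
    have hdiv : ∀ m : M, ∃ m', a 0 • m' = m := fun m => by
      obtain ⟨m', h⟩ := (Submodule.Quotient.mk_eq_zero (LinearMap.range l)).1 (hz (Submodule.mkQ _ m))
      exact ⟨m', h⟩
    choose d hd using hdiv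
    intro m
    let s : ℕ → M := fun n => d^[n] m
    have : s = 0 := (hM 0).1 (by
      rw [map_zero]
      ext n
      simp only [phi_apply, s, Function.iterate_succ_apply', hd, sub_self, Pi.zero_apply])
    exact congrFun this 0

/-- The free resolution of `R_f`. -/
noncomputable def awayF (f : R) : R[X] →ₗ[R] R[X] := LinearMap.mulLeft R (1 - Polynomial.C f * X)

/-- The projection of the free resolution of `R_f`. -/
noncomputable def awayG (f : R) : R[X] →ₗ[R] Localization.Away f :=
  (Localization.awayEquivAdjoin f).symm.toLinearMap ∘ₗ (AdjoinRoot.mkₐ (Polynomial.C f * X - 1)).toLinearMap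

theorem awayF_injective (f : R) : Function.Injective (awayF f) := by
  rw [injective_iff_map_eq_zero]
  intro p hp
  have h : (1 - Polynomial.C f * X) * p = 0 := by simpa [awayF] using hp
  ext n
  induction n with
  | zero => simpa [sub_mul, mul_assoc, Polynomial.coeff_zero_eq_eval_zero] using congrArg (Polynomial.coeff · 0) h
  | succ n ih =>
    have := congrArg (Polynomial.coeff · (n + 1)) h
    simpa [sub_mul, mul_assoc, ih] using this

theorem awayG_surjective (f : R) : Function.Surjective (awayG f) :=
  (Localization.awayEquivAdjoin f).symm.surjective.comp AdjoinRoot.mk_surjective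

theorem away_exact (f : R) : Function.Exact (awayF f) (awayG f) := by
  intro p
  have hneg : Polynomial.C f * X - 1 = -(1 - Polynomial.C f * X) := by ring
  show (Localization.awayEquivAdjoin f).symm (AdjoinRoot.mk _ p) = 0 ↔ _
  rw [map_eq_zero_iff _ (Localization.awayEquivAdjoin f).symm.injective, AdjoinRoot.mk_eq_zero, hneg, neg_dvd]
  exact ⟨fun ⟨q, hq⟩ => ⟨q, hq.symm⟩, fun ⟨q, hq⟩ => ⟨q, hq.symm⟩⟩

theorem awayF_X_pow (f : R) (n : ℕ) : awayF f (X ^ n) = X ^ n - f • X ^ (n + 1) := by
  simp [awayF, Polynomial.smul_eq_C_mul]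
  ring

/-- Linear maps out of the polynomials are sequences. -/
noncomputable def polyHomEquiv (M : Type v) [AddCommGroup M] [Module R M] : (R[X] →ₗ[R] M) ≃ (ℕ → M) :=
  ((Polynomial.basisMonomials R).constr R).toEquiv.symm

theorem polyHomEquiv_apply {M : Type v} [AddCommGroup M] [Module R M] (g : R[X] →ₗ[R] M) (n : ℕ) :
    polyHomEquiv M g n = g (X ^ n) := by
  simp [polyHomEquiv, Polynomial.X_pow_eq_monomial]

theorem DC_iff_bijective_comp (f : R) (M : Type v) [AddCommGroup M] [Module R M] :
    DC f M ↔ Function.Bijective (fun g : R[X] →ₗ[R] M => g ∘ₗ awayF f) := by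
  have : (fun g : R[X] →ₗ[R] M => g ∘ₗ awayF f) = (polyHomEquiv M).symm ∘ phi f M ∘ polyHomEquiv M := by
    refine funext fun g => ((Equiv.eq_symm_apply _).2 (funext fun n => ?_))
    simp only [Function.comp_apply, phi_apply, polyHomEquiv_apply, LinearMap.comp_apply, awayF_X_pow, map_sub, map_smul]
  rw [this, DC, Equiv.comp_bijective, Equiv.bijective_comp]

end GrothLib.ProEtDC7
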