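import Groth.Agent.Lib.ProEtDC7.Free
import Groth.Agent.Lib.ProEtDC7.Seq
import Mathlib.Algebra.Homology.DerivedCategory.Ext.EnoughProjectives
import Mathlib.CategoryTheory.Abelian.GrothendieckCategory.Basic
import Mathlib.Algebra.Homology.ShortComplex.ModuleCat

/-!
# Derived complete sheaves are the ones derived complete on weakly contractible objects
-/

set_option autoImplicit false
set_option linter.style.haveILetI false
set_option backward.isDefEq.respectTransparency.types false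
universe u

open CategoryTheory CategoryTheory.Limits AlgebraicGeometry Opposite CategoryTheory.Abelian

namespace GrothLib.ProEtDC7

section General

variable {A : Type (u + 2)} [Category.{u + 1} A] [Abelian A] [HasExt.{u + 1} A]

/-- Precomposition on `Ext`. -/
noncomputable def pre {P Q : A} (a : P ⟶ Q) {Y : A} {n : ℕ} (x : Ext Q Y n) : Ext P Y n :=
  (Ext.mk₀ a).comp x (zero_add n)

theorem pre_pre {P Q R : A} (a : P ⟶ Q) (b : Q ⟶ R) {Y : A} {n : ℕ} (x : Ext R Y n) :
    pre a (pre b x) = pre (a ≫ b) x := Ext.mk₀_comp_mk₀_assoc a b x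

theorem pre_add {P Q : A} (a : P ⟶ Q) {Y : A} {n : ℕ} (x y : Ext Q Y n) : pre a (x + y) = pre a x + pre a y :=
  Ext.comp_add _ _ _ _

theorem pre_sub {P Q : A} (a : P ⟶ Q) {Y : A} {n : ℕ} (x y : Ext Q Y n) : pre a (x - y) = pre a x - pre a y :=
  map_sub (AddMonoidHom.mk' (pre a (Y := Y) (n := n)) (pre_add a)) x y

theorem pre_zero {P Q : A} (a : P ⟶ Q) {Y : A} {n : ℕ} : pre a (0 : Ext Q Y n) = 0 := by simp [pre]

theorem pre_extClass {S₁ S₂ : ShortComplex A} (h₁ : S₁.ShortExact) (h₂ : S₂.ShortExact) (φ : S₁ ⟶ S₂)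
    {Y : A} {n m : ℕ} (hm : 1 + n = m) (y : Ext S₂.X₁ Y n) :
    pre φ.τ₃ (h₂.extClass.comp y hm) = h₁.extClass.comp (pre φ.τ₁ y) hm := by
  rw [pre, pre, ← Ext.comp_assoc (a₁₂ := 1) _ _ _ (zero_add 1) hm (by omega),
    ← ShortComplex.ShortExact.extClass_naturality h₁ h₂ φ,
    Ext.comp_assoc (a₂₃ := n) _ _ _ (add_zero 1) (zero_add n) (by omega)]

theorem bijective_pre_mk₀ {P Q : A} (a : P ⟶ Q) (Y : A) :
    Function.Bijective (pre a (Y := Y) (n := 0)) ↔ Function.Bijective (fun h : Q ⟶ Y => a ≫ h) := by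
  have : pre a (Y := Y) (n := 0) ∘ Ext.mk₀ = Ext.mk₀ ∘ (fun h : Q ⟶ Y => a ≫ h) :=
    funext fun h => Ext.mk₀_comp_mk₀ a h
  rw [← Function.Bijective.of_comp_iff _ (Ext.mk₀_bijective Q Y), this,
    Function.Bijective.of_comp_iff' (Ext.mk₀_bijective P Y)]

end General

variable {Λ : Type (u + 1)} [CommRing Λ] {X : Scheme.{u}}

theorem smulHom_comm {F G : EtModW.ModP Λ X} (φ : F ⟶ G) (f : Λ) :
    ProEtDC.smulHom Λ F f ≫ φ = φ ≫ ProEtDC.smulHom Λ G f :=
  Sheaf.hom_ext (NatTrans.ext (funext fun U => ModuleCat.hom_ext (LinearMap.ext fun x =>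
    map_smul (φ.hom.app U).hom f x)))

/-- Countable sums. -/
noncomputable def natSum : EtModW.ModP Λ X ⥤ EtModW.ModP Λ X :=
  Functor.const (Discrete (ULift.{u + 1} ℕ)) ⋙ colim

instance : (natSum (Λ := Λ) (X := X)).PreservesZeroMorphisms where
  map_zero G G' := colimit.hom_ext fun i => by
    simp [natSum]
    exact comp_zero.symm

/-- The summands. -/
noncomputable def inj (G : EtModW.ModP Λ X) (n : ℕ) : G ⟶ natSum.obj G :=
  colimit.ι ((Functor.const (Discrete (ULift.{u + 1} ℕ))).obj G) ⟨⟨n⟩⟩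

/-- Maps out of countable sums. -/
noncomputable def descSeq {G Y : EtModW.ModP Λ X} (s : ℕ → (G ⟶ Y)) : natSum.obj G ⟶ Y :=
  colimit.desc _ ⟨Y, Discrete.natTrans fun i => s i.as.down⟩

@[reassoc (attr := simp)]
theorem inj_descSeq {G Y : EtModW.ModP Λ X} (s : ℕ → (G ⟶ Y)) (n : ℕ) : inj G n ≫ descSeq s = s n :=
  colimit.ι_desc _ _

theorem natSum_ext {G Y : EtModW.ModP Λ X} {a b : natSum.obj G ⟶ Y} (h : ∀ n, inj G n ≫ a = inj G n ≫ b) : a = b :=
  colimit.hom_ext fun i => h i.as.down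

@[reassoc]
theorem inj_map {G G' : EtModW.ModP Λ X} (φ : G ⟶ G') (n : ℕ) : inj G n ≫ natSum.map φ = φ ≫ inj G' n :=
  ι_colimMap _ _

theorem projective_natSum (P : EtModW.ModP Λ X) [Projective P] : Projective (natSum.obj P) where
  factors {E Y} g e _ := ⟨descSeq fun n => Projective.factorThru (inj P n ≫ g) e,
    natSum_ext fun n => by rw [inj_descSeq_assoc, Projective.factorThru_comp]⟩

/-- The endomorphism `1 - f · shift`. -/
noncomputable def psi (f : Λ) (G : EtModW.ModP Λ X) : natSum.obj G ⟶ natSum.obj G :=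
  descSeq fun n => inj G n - ProEtDC.smulHom Λ G f ≫ inj G (n + 1)

theorem psi_natural (f : Λ) {G G' : EtModW.ModP Λ X} (φ : G ⟶ G') :
    psi f G ≫ natSum.map φ = natSum.map φ ≫ psi f G' := natSum_ext fun n => by
  rw [psi, psi, inj_descSeq_assoc, inj_map_assoc, inj_descSeq, Preadditive.sub_comp, Preadditive.comp_sub,
    Category.assoc, inj_map, inj_map, ← Category.assoc, smulHom_comm φ f, Category.assoc]

theorem shortExact_natSum {S : ShortComplex (EtModW.ModP Λ X)} (hS : S.ShortExact) :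
    ∃ h : S.f ≫ S.g = 0, (ShortComplex.mk (natSum.map S.f) (natSum.map S.g)
      (by rw [← Functor.map_comp, h, Functor.map_zero])).ShortExact := by
  haveI : AB4OfSize.{u + 1} (EtModW.ModP Λ X) := AB4.of_AB5 _
  haveI : PreservesFiniteLimits (colim : (Discrete (ULift.{u + 1} ℕ) ⥤ EtModW.ModP Λ X) ⥤ _) :=
    HasExactColimitsOfShape.preservesFiniteLimits
  haveI : PreservesFiniteLimits (natSum (Λ := Λ) (X := X)) := comp_preservesFiniteLimits _ _
  haveI : PreservesFiniteColimits (natSum (Λ := Λ) (X := X)) := comp_preservesFiniteColimits _ _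
  exact ⟨S.zero, hS.map_of_exact (natSum (Λ := Λ) (X := X))⟩

/-- Derived completeness on weakly contractible objects. -/
def DCwc (f : Λ) (F : EtModW.ModP Λ X) : Prop :=
  ∀ W : X.ProEt, ProEtS.IsWC W → DC f (F.obj.obj (op W))

/-- The effect of `psi` on sequences of maps. -/
noncomputable def Phi (f : Λ) {G F : EtModW.ModP Λ X} (s : ℕ → (G ⟶ F)) : ℕ → (G ⟶ F) :=
  fun n => s n - s (n + 1) ≫ ProEtDC.smulHom Λ F f

theorem inj_psi_comp (f : Λ) {G F : EtModW.ModP Λ X} (h : natSum.obj G ⟶ F) (n : ℕ) :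
    inj G n ≫ psi f G ≫ h = Phi f (fun n => inj G n ≫ h) n := by
  rw [psi, inj_descSeq_assoc, Preadditive.sub_comp, Phi, Category.assoc, ← smulHom_comm (inj G (n + 1) ≫ h) f]

theorem Phi_app (f : Λ) {G F : EtModW.ModP Λ X} (s : ℕ → (G ⟶ F)) (U : X.ProEtᵒᵖ) (x : G.obj.obj U) (n : ℕ) :
    (Phi f s n).hom.app U x = phi f (F.obj.obj U) (fun n => (s n).hom.app U x) n := rfl

variable {f : Λ} {F : EtModW.ModP Λ X}

theorem Phi_injective (hF : DCwc f F) {G : EtModW.ModP Λ X} (s : ℕ → (G ⟶ F)) (hs : ∀ n, Phi f s n = 0) :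
    ∀ n, s n = 0 := by
  intro n
  refine eq_of_forall_wc Λ fun W hW => ModuleCat.hom_ext (LinearMap.ext fun x => ?_)
  have : (fun n => (s n).hom.app (op W) x) = 0 := (hF W hW).1 (by
    rw [map_zero]
    ext m
    rw [← Phi_app, hs]
    rfl)
  exact congrFun this n

theorem bijective_psi_comp (hF : DCwc f F) (G : EtModW.ModP Λ X) :
    Function.Bijective (fun h : natSum.obj G ⟶ F => psi f G ≫ h) := by
  refine ⟨fun a b hab => ?_, fun y => ?_⟩
  · have h0 : ∀ n, inj G n ≫ (a - b) = 0 := Phi_injective hF _ fun n => by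
      rw [← inj_psi_comp, Preadditive.comp_sub, show psi f G ≫ a = psi f G ≫ b from hab, sub_self, comp_zero]
    exact sub_eq_zero.1 (natSum_ext fun n => by rw [h0 n, comp_zero])
  let π := coverπ Λ G
  let comp' : ∀ i : CoverIdx Λ G, ℕ → F.obj.obj (op i.1.1) := fun i n =>
    freeOneEquiv Λ i.1.1 F (Sigma.ι (fun i : CoverIdx Λ G => (free Λ i.1.1).obj (one Λ)) i ≫ π ≫ inj G n ≫ y)
  choose t ht using fun i : CoverIdx Λ G => (hF i.1.1 i.1.2).2 (comp' i)
  let s : ℕ → (cover Λ G ⟶ F) := fun n => Sigma.desc fun i => (freeOneEquiv Λ i.1.1 F).symm (t i n)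
  have hs : ∀ n, Phi f s n = π ≫ inj G n ≫ y := fun n => Sigma.hom_ext _ _ fun i => by
    apply (freeOneEquiv Λ i.1.1 F).injective
    refine Eq.trans ?_ (congrFun (ht i) n)
    rw [freeOneEquiv_comp, Phi_app]
    refine congrArg (fun v => phi f _ v n) (funext fun m => ?_)
    rw [← freeOneEquiv_comp]
    simp [s]
  have hker : ∀ n, kernel.ι π ≫ s n = 0 := Phi_injective hF _ fun n => by
    have : Phi f (fun n => kernel.ι π ≫ s n) n = kernel.ι π ≫ Phi f s n := by
      simp [Phi, Preadditive.comp_sub]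
    rw [this, hs, kernel.condition_assoc, zero_comp]
  refine ⟨descSeq fun n => Abelian.epiDesc π (s n) (hker n), natSum_ext fun n => ?_⟩
  refine (inj_psi_comp f _ n).trans ((cancel_epi π).1 ?_)
  rw [← hs n]
  simp [Phi, Preadditive.comp_sub, Abelian.comp_epiDesc_assoc, π]

theorem bijective_pre_psi (hF : DCwc f F) : ∀ (n : ℕ) (G : EtModW.ModP Λ X),
    Function.Bijective (pre (psi f G) (Y := F) (n := n))
  | 0, G => (bijective_pre_mk₀ _ _).2 (bijective_psi_comp hF G)
  | n + 1, G => by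
    have ih := bijective_pre_psi hF n
    let S : ShortComplex (EtModW.ModP Λ X) := ShortComplex.mk (kernel.ι (coverπ Λ G)) (coverπ Λ G) (kernel.condition _)
    have hS : S.ShortExact :=
      { exact := ShortComplex.exact_of_f_is_kernel _ (kernelIsKernel _) }
    obtain ⟨h0, hT⟩ := shortExact_natSum hS
    let φ : ShortComplex.mk (natSum.map S.f) (natSum.map S.g) (by rw [← Functor.map_comp, h0, Functor.map_zero]) ⟶
        ShortComplex.mk (natSum.map S.f) (natSum.map S.g) (by rw [← Functor.map_comp, h0, Functor.map_zero]) :=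
      ⟨psi f _, psi f _, psi f _, psi_natural f _, psi_natural f _⟩
    haveI : Projective (natSum.obj S.X₂) := projective_natSum (cover Λ G)
    have hlift : ∀ x : Ext (natSum.obj S.X₃) F (n + 1), ∃ y, hT.extClass.comp y (Nat.add_comm 1 n) = x := fun x =>
      Ext.contravariant_sequence_exact₃ hT F x (Ext.eq_zero_of_projective _) (Nat.add_comm 1 n)
    refine ⟨(injective_iff_map_eq_zero (AddMonoidHom.mk' (pre (psi f G) (Y := F) (n := n + 1)) (pre_add _))).2
      fun x hx => ?_, fun x => ?_⟩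
    · obtain ⟨y, rfl⟩ := hlift x
      have hx' : pre φ.τ₃ (hT.extClass.comp y (Nat.add_comm 1 n)) = 0 := hx
      rw [pre_extClass hT hT] at hx'
      obtain ⟨z, hz⟩ := Ext.contravariant_sequence_exact₁ hT F _ (Nat.add_comm 1 n) hx'
      obtain ⟨z', rfl⟩ := (ih S.X₂).2 z
      have : pre (natSum.map S.f) z' = y := (ih S.X₁).1 (by
        rw [pre_pre, psi_natural, ← pre_pre]
        exact hz)
      rw [← this, pre]
      exact ShortComplex.ShortExact.extClass_comp_assoc hT z'
    · obtain ⟨y, rfl⟩ := hlift x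
      obtain ⟨y', rfl⟩ := (ih S.X₁).2 y
      exact ⟨hT.extClass.comp y' (Nat.add_comm 1 n), pre_extClass hT hT φ _ y'⟩

/-- The free resolution, mapped to the site. -/
noncomputable def awaySeq (f : Λ) : ShortComplex (ModuleCat.{u + 1} Λ) :=
  ShortComplex.mk (ModuleCat.ofHom (awayF f)) (ModuleCat.ofHom (awayG f))
    (ModuleCat.hom_ext (away_exact f).linearMap_comp_eq_zero)

theorem shortExact_awaySeq (f : Λ) : (awaySeq f).ShortExact where
  exact := ShortComplex.ShortExact.moduleCat_exact_iff_function_exact _ |>.2 (away_exact f)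
  mono_f := (ModuleCat.mono_iff_injective _).2 (awayF_injective f)
  epi_g := (ModuleCat.epi_iff_surjective _).2 (awayG_surjective f)

theorem shortExact_free_awaySeq (U : X.ProEt) (f : Λ) : ((awaySeq f).map (free Λ U)).ShortExact := by
  have hS := shortExact_awaySeq f
  haveI := hS.mono_f
  haveI := hS.epi_g
  haveI := (freeAdj Λ U).leftAdjoint_preservesColimits
  exact { exact := hS.exact.map_of_epi_of_preservesCokernel (free Λ U) inferInstance inferInstance
          mono_f := (free Λ U).map_mono _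
          epi_g := (free Λ U).map_epi _ }

/-- The inclusion of a monomial. -/
noncomputable def monoInj (n : ℕ) : one Λ ⟶ ModuleCat.of Λ (Polynomial Λ) :=
  ModuleCat.ofHom (LinearMap.toSpanSingleton Λ _ (Polynomial.X ^ n))

theorem freeOneEquiv_map (U : X.ProEt) {M : ModuleCat.{u + 1} Λ} (a : one Λ ⟶ M) (h : (free Λ U).obj M ⟶ F) :
    freeOneEquiv Λ U F ((free Λ U).map a ≫ h) = (freeAdj Λ U).homEquiv _ _ h (a (1 : Λ)) := by
  simp only [freeOneEquiv, Equiv.trans_apply, Adjunction.homEquiv_naturality_left]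
  rfl

/-- The sum of the free sheaves on one generator is the free sheaf on polynomials. -/
noncomputable def sumToPoly (U : X.ProEt) : natSum.obj ((free Λ U).obj (one Λ)) ⟶ (free Λ U).obj (ModuleCat.of Λ (Polynomial Λ)) :=
  descSeq fun n => (free Λ U).map (monoInj n)

theorem isIso_sumToPoly (U : X.ProEt) : IsIso (sumToPoly (Λ := Λ) U) := by
  let Y := natSum.obj ((free Λ U).obj (one Λ))
  let i : (free Λ U).obj (ModuleCat.of Λ (Polynomial Λ)) ⟶ Y :=
    ((freeAdj Λ U).homEquiv _ _).symm (ModuleCat.ofHom ((polyHomEquiv _).symm fun n =>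
      freeOneEquiv Λ U Y (inj _ n)))
  have hi : ∀ n, (free Λ U).map (monoInj n) ≫ i = inj _ n := fun n => (freeOneEquiv Λ U Y).injective (by
    rw [freeOneEquiv_map, Equiv.apply_symm_apply]
    simp [monoInj, ← polyHomEquiv_apply])
  refine ⟨i, natSum_ext fun n => by rw [sumToPoly, inj_descSeq_assoc, hi, Category.comp_id], ?_⟩
  apply ((freeAdj Λ U).homEquiv _ _).injective
  apply ModuleCat.hom_ext
  apply (polyHomEquiv _).injective
  ext n
  rw [polyHomEquiv_apply, polyHomEquiv_apply]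
  have h2 : (free Λ U).map (monoInj (Λ := Λ) n) ≫ i ≫ sumToPoly U = (free Λ U).map (monoInj n) := by
    rw [← Category.assoc, hi n, sumToPoly, inj_descSeq]
  have h3 := freeOneEquiv_map U (monoInj (Λ := Λ) n) (i ≫ sumToPoly U)
  have h4 := freeOneEquiv_map U (monoInj (Λ := Λ) n) (𝟙 ((free Λ U).obj (ModuleCat.of Λ (Polynomial Λ))))
  rw [h2] at h3
  rw [Category.comp_id] at h4
  simpa [monoInj] using h3.symm.trans h4

theorem free_map_smul (U : X.ProEt) {M : ModuleCat.{u + 1} Λ} (f : Λ) :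
    (free Λ U).map (ModuleCat.ofHom (f • (LinearMap.id : M →ₗ[Λ] M))) = ProEtDC.smulHom Λ ((free Λ U).obj M) f := by
  apply ((freeAdj Λ U).homEquiv _ _).injective
  refine ModuleCat.hom_ext (LinearMap.ext fun x => ?_)
  rw [← Category.comp_id ((free Λ U).map _), (freeAdj Λ U).homEquiv_naturality_left, (freeAdj Λ U).homEquiv_unit,
    (freeAdj Λ U).homEquiv_unit]
  exact map_smul (((freeAdj Λ U).unit.app M) ≫ (ev Λ U).map (𝟙 _)).hom f x

theorem psi_sumToPoly (U : X.ProEt) (f : Λ) :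
    psi f ((free Λ U).obj (one Λ)) ≫ sumToPoly U = sumToPoly U ≫ (free Λ U).map (ModuleCat.ofHom (awayF f)) :=
  natSum_ext fun n => by
    rw [psi, inj_descSeq_assoc, Preadditive.sub_comp, Category.assoc, sumToPoly, inj_descSeq, inj_descSeq,
      inj_descSeq_assoc, ← free_map_smul, ← Functor.map_comp, ← Functor.map_comp, ← Functor.map_sub]
    congr 1
    refine ModuleCat.hom_ext (LinearMap.ext fun c => ?_)
    simp [monoInj, awayF_X_pow, smul_sub, smul_smul, mul_comm]

theorem bijective_pre_awayF (hF : DCwc f F) (U : X.ProEt) (n : ℕ) :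
    Function.Bijective (pre ((free Λ U).map (ModuleCat.ofHom (awayF f))) (Y := F) (n := n)) := by
  haveI := isIso_sumToPoly (Λ := Λ) U
  have he : Function.Bijective (pre (sumToPoly (Λ := Λ) U) (Y := F) (n := n)) :=
    ⟨fun x y h => by
      have := congrArg (pre (inv (sumToPoly U))) h
      rwa [pre_pre, pre_pre, IsIso.inv_hom_id, pre, pre, Ext.mk₀_id_comp, Ext.mk₀_id_comp] at this,
    fun x => ⟨pre (inv (sumToPoly U)) x, by rw [pre_pre, IsIso.hom_inv_id, pre, Ext.mk₀_id_comp]⟩⟩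
  have h : pre (sumToPoly (Λ := Λ) U) (Y := F) (n := n) ∘ pre ((free Λ U).map (ModuleCat.ofHom (awayF f))) =
      pre (psi f ((free Λ U).obj (one Λ))) ∘ pre (sumToPoly U) :=
    funext fun x => by simp only [Function.comp_apply, pre_pre, psi_sumToPoly]
  have hb := (bijective_pre_psi hF n ((free Λ U).obj (one Λ))).comp he
  rw [← h] at hb
  exact (Function.Bijective.of_comp_iff' he _).1 hb

theorem subsingleton_ext_free_away (hF : DCwc f F) (U : X.ProEt) (n : ℕ) :
    Subsingleton (Ext.{u + 1} ((free Λ U).obj (ModuleCat.of Λ (Localization.Away f))) F n) := by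
  have hS := shortExact_free_awaySeq U f
  refine subsingleton_of_forall_eq 0 fun x => ?_
  have h0 : pre ((free Λ U).map (ModuleCat.ofHom (awayG f))) x = 0 := (bijective_pre_awayF hF U n).1 (by
    rw [pre_pre, pre_zero]
    show pre (((awaySeq f).map (free Λ U)).f ≫ ((awaySeq f).map (free Λ U)).g) x = 0
    rw [ShortComplex.zero, pre, Ext.mk₀_zero, Ext.zero_comp])
  cases n with
  | zero =>
    obtain ⟨h, rfl⟩ := (Ext.mk₀_bijective _ _).2 x
    rw [pre, Ext.mk₀_comp_mk₀, Ext.mk₀_eq_zero_iff] at h0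
    haveI := hS.epi_g
    rw [Ext.mk₀_eq_zero_iff]
    exact (cancel_epi ((awaySeq f).map (free Λ U)).g).1 (h0.trans comp_zero.symm)
  | succ m =>
    obtain ⟨y, rfl⟩ := Ext.contravariant_sequence_exact₃ hS F x h0 (Nat.add_comm 1 m)
    obtain ⟨y', rfl⟩ := (bijective_pre_awayF hF U m).2 y
    exact ShortComplex.ShortExact.extClass_comp_assoc hS y'

theorem subsingleton_ext_of_iso {P Q : EtModW.ModP Λ X} (e : P ≅ Q) {Y : EtModW.ModP Λ X} {n : ℕ}
    (h : Subsingleton (Ext.{u + 1} Q Y n)) : Subsingleton (Ext.{u + 1} P Y n) :=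
  subsingleton_of_forall_eq 0 fun x => by
    have : pre e.hom (pre e.inv x) = 0 := by rw [h.elim (pre e.inv x) 0, pre_zero]
    rwa [pre_pre, e.hom_inv_id, pre, Ext.mk₀_id_comp] at this

theorem DC_sections_of_isDCSheaf {I : Ideal Λ} (hF : ProEtDC.IsDCSheaf Λ I F) (hf : f ∈ I) (U : X.ProEt) :
    DC f (F.obj.obj (op U)) := by
  have hS := shortExact_free_awaySeq U f
  have hz : ∀ n, Subsingleton (Ext.{u + 1} ((free Λ U).obj (ModuleCat.of Λ (Localization.Away f))) F n) := fun n =>
    subsingleton_ext_of_iso (locExtIso Λ U f).symm (hF U f hf n)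
  have hb : Function.Bijective (pre ((free Λ U).map (ModuleCat.ofHom (awayF f))) (Y := F) (n := 0)) := by
    refine ⟨(injective_iff_map_eq_zero (AddMonoidHom.mk' (pre _ (Y := F) (n := 0)) (pre_add _))).2 fun x hx => ?_,
      fun x => ?_⟩
    · obtain ⟨z, rfl⟩ := Ext.contravariant_sequence_exact₂ hS F x hx
      exact (congrArg (pre _) ((hz 0).elim z 0)).trans (pre_zero _)
    · exact Ext.contravariant_sequence_exact₁ hS F x (add_zero 1) ((hz 1).elim _ _)
  rw [bijective_pre_mk₀] at hb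
  rw [DC_iff_bijective_comp]
  let e := ((freeAdj Λ U).homEquiv (ModuleCat.of Λ (Polynomial Λ)) F).trans ModuleCat.homEquiv
  have : (fun g : Polynomial Λ →ₗ[Λ] F.obj.obj (op U) => g ∘ₗ awayF f) ∘ e =
      e ∘ (fun h => (free Λ U).map (ModuleCat.ofHom (awayF f)) ≫ h) := funext fun h => by
    simp only [e, Function.comp_apply, Equiv.trans_apply, Adjunction.homEquiv_naturality_left]
    rfl
  have hh := e.bijective.comp hb
  rw [← this] at hh
  exact (Function.Bijective.of_comp_iff _ e.bijective).1 hh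

/-- The criterion. -/
theorem isDCSheaf_iff {I : Ideal Λ} : ProEtDC.IsDCSheaf Λ I F ↔ ∀ f ∈ I, DCwc f F := by
  refine ⟨fun h f hf W _ => DC_sections_of_isDCSheaf h hf W, fun h U f hf n => ?_⟩
  exact subsingleton_ext_of_iso (locExtIso Λ U f) (subsingleton_ext_free_away (h f hf) U n)

end GrothLib.ProEtDC7
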