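import Groth.Agent.Lib.ProEtDC7.NatProd
import Groth.Agent.Lib.DerCat.MapAdj
import Groth.Agent.Lib.DerCat.MapHomology
import Mathlib.Algebra.Homology.DerivedCategory.KProjective

/-!
# Derived complete objects and their cohomology sheaves
-/

set_option autoImplicit false
set_option linter.style.haveILetI false
set_option backward.isDefEq.respectTransparency.types false
universe u

open CategoryTheory CategoryTheory.Limits AlgebraicGeometry Opposite

namespace GrothLib.ProEtDC7

attribute [local instance] HasDerivedCategory.standard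

variable {Λ : Type (u + 1)} [CommRing Λ] {X : Scheme.{u}}

local notation "𝒜" => EtModW.ModP Λ X
local notation "T" => natSum (Λ := Λ) (X := X)
local notation "R'" => natProd (Λ := Λ) (X := X)

/-- The derived adjunction of sums and products. -/
noncomputable def dAdj : (T).mapDerivedCategory ⊣ (R').mapDerivedCategory := DerCat.mapDerivedAdj natAdj

/-- `psi` on the derived category. -/
noncomputable def dPsi (f : Λ) : (T).mapDerivedCategory ⟶ (T).mapDerivedCategory :=
  Localization.liftNatTrans DerivedCategory.Q (HomologicalComplex.quasiIso 𝒜 (ComplexShape.up ℤ))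
    ((T).mapHomologicalComplex (ComplexShape.up ℤ) ⋙ DerivedCategory.Q)
    ((T).mapHomologicalComplex (ComplexShape.up ℤ) ⋙ DerivedCategory.Q) _ _
    (Functor.whiskerRight (NatTrans.mapHomologicalComplex (psiNat f) _) DerivedCategory.Q)

theorem dPsi_app (f : Λ) (K : CochainComplex 𝒜 ℤ) :
    (dPsi f).app (DerivedCategory.Q.obj K) = (T).mapDerivedCategoryFactors.hom.app K ≫
      DerivedCategory.Q.map ((NatTrans.mapHomologicalComplex (psiNat f) _).app K) ≫
        (T).mapDerivedCategoryFactors.inv.app K :=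
  Localization.liftNatTrans_app _ _ _ _ _ _ _ _

/-- The dual operator on the derived category. -/
noncomputable def dPhi (f : Λ) (K : ProEtDC.DP Λ X) : (R').mapDerivedCategory.obj K ⟶ (R').mapDerivedCategory.obj K :=
  dAdj.homEquiv _ _ ((dPsi f).app _ ≫ dAdj.counit.app K)

theorem homEquiv_dPsi_comp (f : Λ) {G K : ProEtDC.DP Λ X} (h : (T).mapDerivedCategory.obj G ⟶ K) :
    dAdj.homEquiv _ _ ((dPsi f).app G ≫ h) = dAdj.homEquiv _ _ h ≫ dPhi f K := by
  obtain ⟨h', rfl⟩ := (dAdj.homEquiv G K).symm.surjective h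
  rw [Equiv.apply_symm_apply]
  show _ = h' ≫ dAdj.homEquiv _ _ ((dPsi f).app _ ≫ dAdj.counit.app K)
  rw [← dAdj.homEquiv_naturality_left, dAdj.homEquiv_counit, ← (dPsi f).naturality_assoc]
  rfl

theorem dPhi_Q (f : Λ) (K : CochainComplex 𝒜 ℤ) :
    dPhi f (DerivedCategory.Q.obj K) = (R').mapDerivedCategoryFactors.hom.app K ≫
      DerivedCategory.Q.map ((NatTrans.mapHomologicalComplex (phiNat f) _).app K) ≫
        (R').mapDerivedCategoryFactors.inv.app K := by
  apply (dAdj.homEquiv _ _).symm.injective
  rw [dPhi, Equiv.symm_apply_apply, dAdj.homEquiv_counit]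
  let C : CochainComplex 𝒜 ℤ := ((R').mapHomologicalComplex (ComplexShape.up ℤ)).obj K
  let b : (R').mapDerivedCategory.obj (DerivedCategory.Q.obj K) ≅ DerivedCategory.Q.obj C :=
    (R').mapDerivedCategoryFactors.app K
  have hc : dAdj.counit.app (DerivedCategory.Q.obj K) = (T).mapDerivedCategory.map b.hom ≫
      (T).mapDerivedCategoryFactors.hom.app C ≫
        DerivedCategory.Q.map ((KInj.mapComplexAdj natAdj (ComplexShape.up ℤ)).counit.app K) := by
    letI : CatCommSq ((T).mapHomologicalComplex (ComplexShape.up ℤ)) DerivedCategory.Q DerivedCategory.Q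
        (T).mapDerivedCategory := ⟨(T).mapDerivedCategoryFactors.symm⟩
    letI : CatCommSq ((R').mapHomologicalComplex (ComplexShape.up ℤ)) DerivedCategory.Q DerivedCategory.Q
        (R').mapDerivedCategory := ⟨(R').mapDerivedCategoryFactors.symm⟩
    exact Adjunction.localization_counit_app (KInj.mapComplexAdj natAdj (ComplexShape.up ℤ)) DerivedCategory.Q
      (HomologicalComplex.quasiIso 𝒜 (ComplexShape.up ℤ)) DerivedCategory.Q
      (HomologicalComplex.quasiIso 𝒜 (ComplexShape.up ℤ)) (T).mapDerivedCategory (R').mapDerivedCategory K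
  have hcc : (NatTrans.mapHomologicalComplex (psiNat f) (ComplexShape.up ℤ)).app C ≫
        (KInj.mapComplexAdj natAdj (ComplexShape.up ℤ)).counit.app K =
      ((T).mapHomologicalComplex (ComplexShape.up ℤ)).map ((NatTrans.mapHomologicalComplex (phiNat f) (ComplexShape.up ℤ)).app K) ≫
        (KInj.mapComplexAdj natAdj (ComplexShape.up ℤ)).counit.app K := by
    refine HomologicalComplex.hom_ext _ _ fun n => ?_
    show psi f _ ≫ natAdj.counit.app _ = (T).map ((phiNat f).app (K.X n)) ≫ natAdj.counit.app _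
    exact ((natAdj.homEquiv _ _).symm_apply_apply _).symm.trans (natAdj.homEquiv_counit _ _ _)
  have hnat : ∀ {C₁ C₂ : CochainComplex 𝒜 ℤ} (φ : C₁ ⟶ C₂),
      (T).mapDerivedCategory.map (DerivedCategory.Q.map φ) ≫ (T).mapDerivedCategoryFactors.hom.app C₂ =
        (T).mapDerivedCategoryFactors.hom.app C₁ ≫ DerivedCategory.Q.map (((T).mapHomologicalComplex _).map φ) :=
    fun φ => (T).mapDerivedCategoryFactors.hom.naturality φ
  rw [hc, ← (dPsi f).naturality_assoc, dPsi_app]
  simp only [Category.assoc, Iso.inv_hom_id_app_assoc]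
  rw [← Functor.map_comp, hcc]
  simp only [Functor.map_comp, Category.assoc, b, Iso.app_hom]
  rw [← (T).mapDerivedCategory.map_comp_assoc ((R').mapDerivedCategoryFactors.inv.app K),
    Iso.inv_hom_id_app, CategoryTheory.Functor.map_id, Category.id_comp, reassoc_of% (hnat _)]

theorem isIso_dPhi_Q_iff (f : Λ) (K : CochainComplex 𝒜 ℤ) :
    IsIso (dPhi f (DerivedCategory.Q.obj K)) ↔
      ∀ n : ℤ, IsIso ((phiNat f).app (K.homology n)) := by
  rw [dPhi_Q, isIso_comp_left_iff, isIso_comp_right_iff, DerivedCategory.isIso_Q_map_iff_quasiIso, quasiIso_iff]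
  refine forall_congr' fun n => ?_
  rw [quasiIsoAt_iff_isIso_homologyMap]
  have e : HomologicalComplex.homologyMap ((NatTrans.mapHomologicalComplex (phiNat f) (ComplexShape.up ℤ)).app K) n =
      ((K.sc n).mapHomologyIso R').hom ≫ (phiNat f).app (K.homology n) ≫ ((K.sc n).mapHomologyIso R').inv :=
    ShortComplex.homologyMap_mapNatTrans (K.sc n) (phiNat f)
  rw [e]
  change IsIso (((K.sc n).mapHomologyIso R').hom ≫ (phiNat f).app (K.sc n).homology ≫ ((K.sc n).mapHomologyIso R').inv) ↔ IsIso ((phiNat f).app (K.sc n).homology)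
  rw [isIso_comp_left_iff, isIso_comp_right_iff]

theorem isIso_phiNat_congr (f : Λ) {F G : 𝒜} (e : F ≅ G) : IsIso ((phiNat f).app F) ↔ IsIso ((phiNat f).app G) := by
  rw [show (phiNat f).app G = (R').map e.inv ≫ (phiNat f).app F ≫ (R').map e.hom by
      rw [← (phiNat f).naturality, ← Functor.map_comp_assoc, e.inv_hom_id, CategoryTheory.Functor.map_id, Category.id_comp],
    isIso_comp_left_iff, isIso_comp_right_iff]

/-- The quantified condition: precomposition with `psi` is bijective. -/
theorem bijective_dPsi_iff (f : Λ) (G K : ProEtDC.DP Λ X) :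
    Function.Bijective (fun h : (T).mapDerivedCategory.obj G ⟶ K => (dPsi f).app G ≫ h) ↔
      Function.Bijective (fun h : G ⟶ (R').mapDerivedCategory.obj K => h ≫ dPhi f K) := by
  have : (dAdj.homEquiv G K) ∘ (fun h : (T).mapDerivedCategory.obj G ⟶ K => (dPsi f).app G ≫ h) =
      (fun h : G ⟶ (R').mapDerivedCategory.obj K => h ≫ dPhi f K) ∘ (dAdj.homEquiv G K) :=
    funext fun h => homEquiv_dPsi_comp f h
  rw [← Function.Bijective.of_comp_iff' (dAdj.homEquiv G K).bijective, this,
    Function.Bijective.of_comp_iff _ (dAdj.homEquiv G K).bijective]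

/-- Complexes concentrated in degree zero. -/
noncomputable abbrev sc0 : 𝒜 ⥤ CochainComplex 𝒜 ℤ := HomologicalComplex.single 𝒜 (ComplexShape.up ℤ) 0

/-- `single` commutes with the derived sum. -/
noncomputable def singleSumIso (G : 𝒜) :
    (T).mapDerivedCategory.obj (DerivedCategory.Q.obj (sc0.obj G)) ≅ DerivedCategory.Q.obj (sc0.obj ((T).obj G)) :=
  (T).mapDerivedCategoryFactors.app _ ≪≫
    DerivedCategory.Q.mapIso ((HomologicalComplex.singleMapHomologicalComplex T (ComplexShape.up ℤ) 0).app G)

theorem dPsi_single (f : Λ) (G : 𝒜) :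
    (dPsi f).app (DerivedCategory.Q.obj (sc0.obj G)) ≫ (singleSumIso G).hom =
      (singleSumIso G).hom ≫ DerivedCategory.Q.map (sc0.map (psi f G)) := by
  rw [dPsi_app]
  simp only [singleSumIso, Iso.trans_hom, Iso.app_hom, Functor.mapIso_hom, Category.assoc, Iso.inv_hom_id_app_assoc]
  rw [← Functor.map_comp, ← Functor.map_comp]
  congr 2
  refine HomologicalComplex.to_single_hom_ext ?_
  simp only [HomologicalComplex.comp_f, HomologicalComplex.singleMapHomologicalComplex_hom_app_self,
    HomologicalComplex.single_map_f_self, NatTrans.mapHomologicalComplex_app_f]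
  have := psi_natural f (HomologicalComplex.singleObjXSelf (ComplexShape.up ℤ) 0 G).hom
  simp only [psiNat, Category.assoc, Iso.inv_hom_id_assoc]
  erw [reassoc_of% this]
  erw [Category.assoc, Iso.inv_hom_id_assoc]
  rfl

theorem bijective_single_psi_iff (f : Λ) (G : 𝒜) (K : ProEtDC.DP Λ X) :
    Function.Bijective (fun h : DerivedCategory.Q.obj (sc0.obj ((T).obj G)) ⟶ K => DerivedCategory.Q.map (sc0.map (psi f G)) ≫ h) ↔
      Function.Bijective (fun h : DerivedCategory.Q.obj (sc0.obj G) ⟶ (R').mapDerivedCategory.obj K => h ≫ dPhi f K) := by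
  rw [← bijective_dPsi_iff]
  let e := (singleSumIso G).symm.homFromEquiv (Z := K)
  have : e ∘ (fun h => DerivedCategory.Q.map (sc0.map (psi f G)) ≫ h) =
      (fun h : (T).mapDerivedCategory.obj (DerivedCategory.Q.obj (sc0.obj G)) ⟶ K => (dPsi f).app _ ≫ h) ∘ e :=
    funext fun h => by
      simp only [e, Function.comp_apply, Iso.homFromEquiv_apply, Iso.symm_inv]
      rw [reassoc_of% (dPsi_single f G)]
  rw [← Function.Bijective.of_comp_iff' e.bijective, this, Function.Bijective.of_comp_iff _ e.bijective]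

end GrothLib.ProEtDC7
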