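import Groth.Agent.Lib.ProEtDC7.Completion

/-!
# Derived complete sheaves with locally constant reduction are quotients of finite sums of `Λ^∧`
-/

set_option autoImplicit false
set_option linter.style.haveILetI false
set_option backward.isDefEq.respectTransparency.types false
universe u

open CategoryTheory CategoryTheory.Limits AlgebraicGeometry Opposite

namespace GrothLib.ProEtDC7

variable {Λ : Type (u + 1)} [CommRing Λ] {X : Scheme.{u}}

theorem exists_sieve_span {C : Type (u + 1)} [Category.{u} C] (J : GrothendieckTopology C)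
    [HasWeakSheafify J (ModuleCat.{u + 1} Λ)]
    {T : C} (hT : IsTerminal T) {M : ModuleCat.{u + 1} Λ}
    [Presheaf.IsLocallySurjective J (toSheafify J ((Functor.const Cᵒᵖ).obj M))] {N : ℕ} (g : Fin N → M)
    (hg : Submodule.span Λ (Set.range g) = ⊤) :
    ∃ σ : Fin N → ((constantSheaf J (ModuleCat.{u + 1} Λ)).obj M).obj.obj (op T),
      ∀ (Y : C) (y : ((constantSheaf J (ModuleCat.{u + 1} Λ)).obj M).obj.obj (op Y)),
        ∃ S ∈ J Y, ∀ ⦃Z : C⦄ (k : Z ⟶ Y), S k →
          ((constantSheaf J (ModuleCat.{u + 1} Λ)).obj M).obj.map k.op y ∈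
            Submodule.span Λ (Set.range fun l =>
              ((constantSheaf J (ModuleCat.{u + 1} Λ)).obj M).obj.map (hT.from Z).op (σ l)) := by
  let η := toSheafify J ((Functor.const Cᵒᵖ).obj M)
  refine ⟨fun l => η.app (op T) (g l), fun Y y => ⟨_, Presheaf.imageSieve_mem J η y, fun Z k hk => ?_⟩⟩
  obtain ⟨c, hc⟩ := hk
  have e : ∀ m : M, ((constantSheaf J (ModuleCat.{u + 1} Λ)).obj M).obj.map (hT.from Z).op (η.app (op T) m) =
      η.app (op Z) m := fun m => (NatTrans.naturality_apply η (hT.from Z).op m).symm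
  simp only [e]
  have h2 := Submodule.apply_mem_span_image_of_mem_span (η.app (op Z)).hom
    (show c ∈ Submodule.span Λ (Set.range g) by rw [hg]; trivial)
  rw [← Set.range_comp] at h2
  exact Eq.mp (congrArg (fun t => t ∈ _) hc) h2

/-- A locally constant sheaf of finite type is locally generated by finitely many sections. -/
theorem exists_local_generators {F : EtModW.ModP Λ X} (U : X.ProEt) {M : Type (u + 1)} [AddCommGroup M] [Module Λ M]
    [Module.Finite Λ M]
    (e : F.over U ≅ (constantSheaf ((Scheme.ProEt.topology X).over U) (ModuleCat.{u + 1} Λ)).obj (ModuleCat.of Λ M)) :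
    ∃ (N : ℕ) (m : Fin N → F.obj.obj (op U)), ∀ (Z : EtModW.ModP Λ X) (h : F ⟶ Z) (V : X.ProEt) (f : V ⟶ U),
      (∀ l, h.hom.app (op V) (F.obj.map f.op (m l)) = 0) → ∀ x : F.obj.obj (op V), h.hom.app (op V) x = 0 := by
  obtain ⟨N, g, hg⟩ := Module.Finite.exists_fin (R := Λ) (M := M)
  obtain ⟨σ, hσ⟩ := exists_sieve_span ((Scheme.ProEt.topology X).over U) (overTerminal U) (M := ModuleCat.of Λ M) g hg
  let m : Fin N → F.obj.obj (op U) := fun l => e.inv.hom.app (op (Over.mk (𝟙 U))) (σ l)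
  refine ⟨N, m, fun Z h V f hm x => ?_⟩
  obtain ⟨S, hS, hspan⟩ := hσ (Over.mk f) (e.hom.hom.app (op (Over.mk f)) x)
  refine Sheaf.isSeparated Z V _ hS _ 0 fun Y k hk => ?_
  rw [map_zero]
  obtain ⟨Y', kY, l, hk', rfl⟩ := hk
  refine (NatTrans.naturality_apply h.hom ((Over.forget U).map kY |> (l ≫ ·)).op x).symm.trans ?_
  rw [op_comp, Functor.map_comp, ConcreteCategory.comp_apply]
  refine (NatTrans.naturality_apply h.hom l.op _).trans ?_
  suffices h.hom.app (op Y'.left) (F.obj.map kY.left.op x) = 0 by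
    exact (congrArg (Z.obj.map l.op) this).trans (map_zero _)
  have h1 := Submodule.apply_mem_span_image_of_mem_span
    ((h.hom.app (op Y'.left)).hom.comp (e.inv.hom.app (op Y')).hom) (hspan kY hk')
  have h2 : (h.hom.app (op Y'.left)).hom ((e.inv.hom.app (op Y')).hom
      (((constantSheaf ((Scheme.ProEt.topology X).over U) (ModuleCat.{u + 1} Λ)).obj (ModuleCat.of Λ M)).obj.map
        kY.op (e.hom.hom.app (op (Over.mk f)) x))) = h.hom.app (op Y'.left) (F.obj.map kY.left.op x) := by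
    congr 1
    refine (NatTrans.naturality_apply e.inv.hom kY.op _).trans ?_
    exact congrArg ((F.over U).obj.map kY.op) (congrArg (fun φ => φ.hom.app (op (Over.mk f)) x) e.hom_inv_id)
  have h3 := Eq.mp (congrArg (fun t => t ∈ _) h2) h1
  refine (Submodule.mem_bot Λ).1 ((Submodule.span_le.2 ?_) h3)
  rintro _ ⟨_, ⟨j, rfl⟩, rfl⟩
  show h.hom.app (op Y'.left) (e.inv.hom.app (op Y') _) = 0
  refine (congrArg (h.hom.app (op Y'.left)) (NatTrans.naturality_apply e.inv.hom ((overTerminal U).from Y').op (σ j))).trans ?_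
  have e2 : ((overTerminal U).from Y').left = kY.left ≫ f := by
    have := Over.w kY
    have h3 := Over.w ((overTerminal U).from Y')
    simp only [Over.mk_hom] at this h3
    rw [this]
    simpa using h3
  show h.hom.app (op Y'.left) (F.obj.map ((overTerminal U).from Y').left.op (m j)) = 0
  rw [e2, op_comp, Functor.map_comp, ConcreteCategory.comp_apply]
  exact (NatTrans.naturality_apply h.hom kY.left.op _).trans ((congrArg (Z.obj.map kY.left.op) (hm j)).trans (map_zero _))

theorem exists_glue {F : EtModW.ModP Λ X} {U : X.ProEt} {ι : Type u} (V : ι → X.ProEt) (f : ∀ i, V i ⟶ U)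
    [∀ i, IsOpenImmersion (f i).left]
    (hd : ∀ i j, i ≠ j → Disjoint (Set.range (f i).left) (Set.range (f j).left))
    (hs : ∀ x : U.left, ∃ i y, (f i).left y = x) (t : ∀ i, F.obj.obj (op (V i))) :
    ∃ a, ∀ i, F.obj.map (f i).op a = t i := by
  let F' := (sheafCompose (Scheme.ProEt.topology X) (forget (ModuleCat.{u + 1} Λ))).obj F
  have hcov := GrothLib.ProEtS.ofArrows_mem_of_isOpenMap V f (fun i => (f i).left.isOpenEmbedding.isOpenMap) hs
  have hF : (Presieve.ofArrows V f).IsSheafFor F'.obj :=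
    (Presieve.isSheafFor_iff_generate _).2 ((isSheaf_iff_isSheaf_of_type _ _).1 F'.property _ hcov)
  obtain ⟨a, ha, -⟩ := (Presieve.isSheafFor_arrows_iff _ _).1 hF t (fun i j Z gi gj hij => by
    by_cases h : i = j
    · subst h
      obtain rfl : gi = gj := MorphismProperty.Over.Hom.ext <| by
        rw [← cancel_mono (f i).left]
        exact congrArg CommaMorphism.left (congrArg MorphismProperty.Comma.Hom.toCommaMorphism hij)
      rfl
    · haveI : IsEmpty Z.left := ⟨fun z => Set.disjoint_left.1 (hd i j h) ⟨gi.left z, rfl⟩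
        ⟨gj.left z, (congr($(hij).left.base z)).symm⟩⟩
      exact (((isSheaf_iff_isSheaf_of_type _ _).1 F'.property _
        (Scheme.ProEt.bot_mem_topology Z)).isSeparatedFor).ext fun _ _ h => h.elim)
  exact ⟨a, ha⟩

theorem isWC_topP [IsAffine X] (hX : EtPBC.IsWContractible ↥(Γ(X, ⊤))) : ProEtS.IsWC (ProEtS.topP X) :=
  haveI : IsAffine (ProEtS.topP X).left := inferInstanceAs (IsAffine X)
  GrothLib.ProEtS.isWC_of_isWContractible hX

/-- On a weakly contractible affine base a locally constant sheaf of finite type has finitely many generators. -/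
theorem exists_global_generators [IsAffine X] (hX : EtPBC.IsWContractible ↥(Γ(X, ⊤))) {Q : EtModW.ModP Λ X}
    (hQ : EtModW.IsFPLocConstP Λ Q) :
    ∃ (t : ℕ) (s : Fin t → Q.obj.obj (op (ProEtS.topP X))), ∀ (Z : EtModW.ModP Λ X) (h : Q ⟶ Z),
      (∀ i, h.hom.app (op (ProEtS.topP X)) (s i) = 0) → h = 0 := by
  classical
  haveI : IsAffine (ProEtS.topP X).left := inferInstanceAs (IsAffine X)
  obtain ⟨ι, U, hU, hloc⟩ := hQ
  have hgen : ∀ i, ∃ (N : ℕ) (m : Fin N → Q.obj.obj (op (U i))), ∀ (Z : EtModW.ModP Λ X) (h : Q ⟶ Z) (V : X.ProEt)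
      (f : V ⟶ U i), (∀ l, h.hom.app (op V) (Q.obj.map f.op (m l)) = 0) → ∀ x, h.hom.app (op V) x = 0 := fun i => by
    obtain ⟨M, _, _, hM, ⟨e⟩⟩ := hloc i
    exact exists_local_generators (U i) e
  choose N m hm using hgen
  obtain ⟨n, W, -, hd, hu, hR⟩ := GrothLib.ProEtS.clopenRefined_of_isWContractible (U := ProEtS.topP X) hX _ hU
  let V : ULift.{u} (Fin n) → X.ProEt := fun k => Scheme.ProEt.mk ((W k.down).ι ≫ (ProEtS.topP X).hom)
  let f : ∀ k, V k ⟶ ProEtS.topP X := fun k => MorphismProperty.Over.homMk (W k.down).ι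
  haveI : ∀ k, IsOpenImmersion (f k).left := fun k => inferInstanceAs (IsOpenImmersion (W k.down).ι)
  have hd' : ∀ i j, i ≠ j → Disjoint (Set.range (f i).left) (Set.range (f j).left) := fun i j hij => by
    show Disjoint (Set.range (W i.down).ι) (Set.range (W j.down).ι)
    rw [Scheme.Opens.range_ι, Scheme.Opens.range_ι]
    exact hd fun e => hij (ULift.ext _ _ e)
  have hs' : ∀ x : (ProEtS.topP X).left, ∃ i y, (f i).left y = x := fun x => by
    obtain ⟨k, hk⟩ := Set.mem_iUnion.1 (hu.symm ▸ Set.mem_univ x)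
    exact ⟨⟨k⟩, ⟨x, hk⟩, rfl⟩
  have hl : ∀ k, ∃ i, Nonempty (V k ⟶ U i) := fun k => by
    obtain ⟨Y, a, b, ⟨i⟩, -⟩ := hR k.down
    exact ⟨i, ⟨a⟩⟩
  choose idx hidx using hl
  let l : ∀ k, V k ⟶ U (idx k) := fun k => (hidx k).some
  have hext : ∀ p : (Σ k : ULift.{u} (Fin n), Fin (N (idx k))), ∃ a : Q.obj.obj (op (ProEtS.topP X)),
      Q.obj.map (f p.1).op a = Q.obj.map (l p.1).op (m (idx p.1) p.2) := fun p => by
    obtain ⟨a, ha⟩ := exists_glue V f hd' hs' (F := Q) fun k =>
      if hk : k = p.1 then hk ▸ Q.obj.map (l p.1).op (m (idx p.1) p.2) else 0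
    exact ⟨a, (ha p.1).trans (dif_pos rfl)⟩
  choose a ha using hext
  obtain ⟨e⟩ : Nonempty (Fin (Fintype.card (Σ k : ULift.{u} (Fin n), Fin (N (idx k)))) ≃ _) :=
    ⟨(Fintype.equivFin _).symm⟩
  refine ⟨_, fun i => a (e i), fun Z h hh => ?_⟩
  refine Sheaf.hom_ext (NatTrans.ext (funext fun ⟨Y⟩ => ModuleCat.hom_ext (LinearMap.ext fun x => ?_)))
  let toT : Y ⟶ ProEtS.topP X := MorphismProperty.Over.homMk Y.hom
  have hcov := GrothLib.ProEtS.ofArrows_mem_of_isOpenMap V f (fun i => (f i).left.isOpenEmbedding.isOpenMap) hs'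
  refine Sheaf.isSeparated Z Y _ ((Scheme.ProEt.topology X).pullback_stable toT hcov) _ 0 fun Y' k hk => ?_
  rw [map_zero]
  refine (NatTrans.naturality_apply h.hom k.op x).symm.trans ?_
  obtain ⟨_, b, _, ⟨j⟩, hb⟩ := hk
  refine hm (idx j) Z h Y' (b ≫ l j) (fun q => ?_) _
  have h1 := congrArg (fun y => Z.obj.map (b ≫ f j).op y) (hh (e.symm ⟨j, q⟩))
  simp only [Equiv.apply_symm_apply, map_zero] at h1
  rw [← NatTrans.naturality_apply h.hom] at h1
  rw [← h1, op_comp, op_comp, Functor.map_comp, Functor.map_comp, ConcreteCategory.comp_apply,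
    ConcreteCategory.comp_apply, ha ⟨j, q⟩]

theorem isDCSheaf_biproduct {I : Ideal Λ} {t : ℕ} (G : Fin t → EtModW.ModP Λ X)
    (h : ∀ i, ProEtDC.IsDCSheaf Λ I (G i)) : ProEtDC.IsDCSheaf Λ I (⨁ G) := fun U f hf n =>
  subsingleton_of_forall_eq 0 fun x => by
    have : x = x.comp (Abelian.Ext.mk₀ (∑ i, biproduct.π G i ≫ biproduct.ι G i)) (add_zero n) := by
      rw [biproduct.total, Abelian.Ext.comp_mk₀_id]
    rw [this, Abelian.Ext.mk₀_sum, Abelian.Ext.comp_sum]
    refine Finset.sum_eq_zero fun i _ => ?_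
    rw [← Abelian.Ext.mk₀_comp_mk₀, ← Abelian.Ext.comp_assoc (a₁₂ := n) _ _ _ (add_zero n) (zero_add 0) (by omega),
      (h i U f hf n).elim (x.comp (Abelian.Ext.mk₀ (biproduct.π G i)) (add_zero n)) 0, Abelian.Ext.zero_comp]

theorem exists_epi_from_lambdaHat [IsAffine X] (hX : EtPBC.IsWContractible ↥(Γ(X, ⊤))) [IsNoetherianRing Λ]
    {r : ℕ} (a : Fin r → Λ) (F : EtModW.ModP Λ X)
    (hF : ProEtDC.IsDCSheaf Λ (Ideal.span (Set.range a)) F)
    (hq : EtModW.IsFPLocConstP Λ (cokernel (ProEtDC.gensMap Λ a F))) :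
    ∃ (t : ℕ) (φ : (⨁ fun _ : Fin t => ProEtDC.lambdaHat Λ X (Ideal.span (Set.range a))) ⟶ F), Epi φ := by
  have hW := isWC_topP hX
  let π := cokernel.π (ProEtDC.gensMap Λ a F)
  obtain ⟨t, s, hs⟩ := exists_global_generators hX hq
  choose s' hs' using fun i => surjective_app_of_epi Λ π hW (s i)
  have hT : IsTerminal (ProEtS.topP X) := MorphismProperty.Over.mkIdTerminal _ _
  choose φ x hx using fun i => exists_hom_lambdaHat (a := a) Λ hT hF (s' i)
  let Φ : (⨁ fun _ : Fin t => ProEtDC.lambdaHat Λ X (Ideal.span (Set.range a))) ⟶ F := biproduct.desc φ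
  refine ⟨t, Φ, ?_⟩
  have hC : ProEtDC.IsDCSheaf Λ (Ideal.span (Set.range a)) (cokernel Φ) :=
    (isDCSheaf_kernel_cokernel Φ (isDCSheaf_biproduct _ fun _ => isDCSheaf_lambdaHat _) hF).2
  have h0 : ProEtDC.ModGensIsZero Λ a (cokernel Φ) := by
    refine Preadditive.epi_of_cancel_zero _ fun {Z} h hh => ?_
    have hk : ∀ k, ProEtDC.smulHom Λ (cokernel Φ) (a k) ≫ h = 0 := fun k => by
      have := congrArg (biproduct.ι (fun _ : Fin r => cokernel Φ) k ≫ ·) hh
      simpa using this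
    have hF0 : ProEtDC.gensMap Λ a F ≫ (cokernel.π Φ ≫ h) = 0 := biproduct.hom_ext' _ _ fun k => by
      rw [biproduct.ι_desc_assoc, ← Category.assoc, smulHom_comm, Category.assoc, hk, comp_zero, comp_zero]
    have h' : cokernel.desc _ _ hF0 = 0 := hs _ _ fun i => by
      rw [← hs' i, ← hx i]
      have e : φ i ≫ π ≫ cokernel.desc _ _ hF0 = 0 := by
        rw [cokernel.π_desc, show φ i = biproduct.ι (fun _ : Fin t => ProEtDC.lambdaHat Λ X (Ideal.span (Set.range a))) i ≫ Φ
          from (biproduct.ι_desc _ _).symm, Category.assoc, cokernel.condition_assoc, zero_comp, comp_zero]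
      exact congrArg (fun ψ => ψ.hom.app (op (ProEtS.topP X)) (x i)) e
    rw [← cancel_epi (cokernel.π Φ), comp_zero, ← cokernel.π_desc _ _ hF0, h', comp_zero]
  exact Abelian.epi_of_cokernel_π_eq_zero _ ((isZero_of_modGensIsZero a _ hC h0).eq_of_tgt _ _)

end GrothLib.ProEtDC7
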