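import Groth.Prelude.Def_ProEtDC
import Groth.Agent.Lib.ProEtS.Cover
import Mathlib.Algebra.Category.ModuleCat.AB
import Mathlib.Algebra.Category.ModuleCat.Projective
import Mathlib.CategoryTheory.Adjunction.Evaluation
import Mathlib.CategoryTheory.Sites.EpiMono
import Mathlib.CategoryTheory.Adjunction.Additive

/-!
# Free sheaves of modules on the pro-étale site and weakly contractible objects
-/

set_option autoImplicit false
set_option linter.style.haveILetI false
set_option backward.isDefEq.respectTransparency.types false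
universe u

open CategoryTheory CategoryTheory.Limits AlgebraicGeometry Opposite

namespace GrothLib.ProEtDC7

variable (Λ : Type (u + 1)) [CommRing Λ] {X : Scheme.{u}}

/-- Sections over an object. -/
noncomputable abbrev ev (U : X.ProEt) : EtModW.ModP Λ X ⥤ ModuleCat.{u + 1} Λ :=
  sheafToPresheaf _ _ ⋙ (evaluation _ _).obj (op U)

/-- The free sheaf on `U` with coefficients. -/
noncomputable abbrev free (U : X.ProEt) : ModuleCat.{u + 1} Λ ⥤ EtModW.ModP Λ X :=
  evaluationLeftAdjoint (ModuleCat.{u + 1} Λ) (op U) ⋙ presheafToSheaf (Scheme.ProEt.topology X) (ModuleCat.{u + 1} Λ)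

/-- Free sheaves are left adjoint to sections. -/
noncomputable def freeAdj (U : X.ProEt) : free Λ U ⊣ ev Λ U :=
  (evaluationAdjunctionRight (ModuleCat.{u + 1} Λ) (op U)).comp (sheafificationAdjunction _ _)

/-- The terminal object of an over category of the site. -/
noncomputable def overTerminal (U : X.ProEt) : IsTerminal (Over.mk (𝟙 U)) := Over.mkIdTerminal

/-- Extension by zero of constant sheaves are the free sheaves. -/
noncomputable def constIso (U : X.ProEt) :
    constantSheaf ((Scheme.ProEt.topology X).over U) (ModuleCat.{u + 1} Λ) ⋙ ProEtDC.extZeroModP Λ U ≅ free Λ U :=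
  Adjunction.leftAdjointUniq
    (((constantSheafAdj ((Scheme.ProEt.topology X).over U) (ModuleCat.{u + 1} Λ) (overTerminal U)).comp
      ((Over.forget U).sheafAdjunctionContinuous (ModuleCat.{u + 1} Λ) ((Scheme.ProEt.topology X).over U)
        (Scheme.ProEt.topology X))).ofNatIsoRight (Iso.refl (ev Λ U)))
    (freeAdj Λ U)

/-- `j_! Λ_f` is free. -/
noncomputable def locExtIso (U : X.ProEt) (f : Λ) :
    ProEtDC.locExt Λ U f ≅ (free Λ U).obj (ModuleCat.of Λ (Localization.Away f)) :=
  (constIso Λ U).app _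

instance (U : X.ProEt) : (free Λ U).Additive := (freeAdj Λ U).left_adjoint_additive

instance preservesMonomorphisms_free (U : X.ProEt) : (free Λ U).PreservesMonomorphisms where
  preserves {M N} f _ := by
    haveI : Mono ((evaluationLeftAdjoint (ModuleCat.{u + 1} Λ) (op U)).map f) := by
      refine @NatTrans.mono_of_mono_app _ _ _ _ _ _ _ fun W => ?_
      have e : ((evaluationLeftAdjoint (ModuleCat.{u + 1} Λ) (op U)).map f).app W =
          colim.map (Discrete.natTrans (F := Discrete.functor fun _ : (op U ⟶ W) => M)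
            (G := Discrete.functor fun _ : (op U ⟶ W) => N) fun _ => f) := by
        refine Sigma.hom_ext _ _ fun g => ?_
        simp [evaluationLeftAdjoint, Sigma.ι]
      rw [e]
      haveI : AB4OfSize.{u} (ModuleCat.{u + 1} Λ) := AB4OfSize_shrink.{u, u + 1} _
      haveI : Mono (Discrete.natTrans (F := Discrete.functor fun _ : (op U ⟶ W) => M)
          (G := Discrete.functor fun _ : (op U ⟶ W) => N) fun _ => f) :=
        @NatTrans.mono_of_mono_app _ _ _ _ _ _ _ fun _ => ‹Mono f›
      exact (colim (J := Discrete (op U ⟶ W)) (C := ModuleCat.{u + 1} Λ)).map_mono _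
    exact inferInstanceAs (Mono ((presheafToSheaf _ _).map _))

theorem surjective_app_of_epi {F G : EtModW.ModP Λ X} (φ : F ⟶ G) [Epi φ] {W : X.ProEt} (hW : ProEtS.IsWC W) :
    Function.Surjective (φ.hom.app (op W)) := by
  haveI : Sheaf.IsLocallySurjective φ := (Sheaf.isLocallySurjective_iff_epi' (φ := φ)).2 ‹_›
  let ψ := (sheafCompose (Scheme.ProEt.topology X) (forget (ModuleCat.{u + 1} Λ))).map φ
  haveI : Sheaf.IsLocallySurjective ψ :=
    (Presheaf.isLocallySurjective_iff_whisker_forget _ φ.hom).1 ‹_›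
  exact hW _ _ ψ inferInstance

theorem preservesEpimorphisms_ev {W : X.ProEt} (hW : ProEtS.IsWC W) : (ev Λ W).PreservesEpimorphisms where
  preserves {_ _} f _ := (ModuleCat.epi_iff_surjective _).2 (surjective_app_of_epi Λ f hW)

theorem projective_free {W : X.ProEt} (hW : ProEtS.IsWC W) (M : ModuleCat.{u + 1} Λ) [Projective M] :
    Projective ((free Λ W).obj M) :=
  haveI := preservesEpimorphisms_ev Λ hW
  (freeAdj Λ W).map_projective M inferInstance

/-- The unit module. -/
noncomputable abbrev one : ModuleCat.{u + 1} Λ := ModuleCat.of Λ Λ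

/-- Maps out of the free sheaf on one generator. -/
noncomputable def freeOneEquiv (U : X.ProEt) (F : EtModW.ModP Λ X) :
    ((free Λ U).obj (one Λ) ⟶ F) ≃ F.obj.obj (op U) :=
  ((freeAdj Λ U).homEquiv _ _).trans (ModuleCat.homEquiv.trans (LinearMap.ringLmapEquivSelf Λ Λ _).toEquiv)

theorem freeOneEquiv_comp (U : X.ProEt) {F G : EtModW.ModP Λ X} (h : (free Λ U).obj (one Λ) ⟶ F) (φ : F ⟶ G) :
    freeOneEquiv Λ U G (h ≫ φ) = φ.hom.app (op U) (freeOneEquiv Λ U F h) := by
  simp only [freeOneEquiv, Equiv.trans_apply, Adjunction.homEquiv_naturality_right]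
  rfl

/-- The index type of the standard cover by projectives. -/
abbrev CoverIdx (F : EtModW.ModP Λ X) : Type (u + 1) :=
  Σ W : {W : X.ProEt // ProEtS.IsWC W}, F.obj.obj (op W.1)

/-- The standard cover by projectives. -/
noncomputable abbrev cover (F : EtModW.ModP Λ X) : EtModW.ModP Λ X :=
  ∐ fun i : CoverIdx Λ F => (free Λ i.1.1).obj (one Λ)

/-- The projection of the standard cover. -/
noncomputable def coverπ (F : EtModW.ModP Λ X) : cover Λ F ⟶ F :=
  Sigma.desc fun i => (freeOneEquiv Λ i.1.1 F).symm i.2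

instance projective_cover (F : EtModW.ModP Λ X) : Projective (cover Λ F) := by
  haveI : ∀ i : CoverIdx Λ F, Projective ((free Λ i.1.1).obj (one Λ)) := fun i =>
    haveI : Projective (one Λ) := ModuleCat.projective_of_free (Module.Basis.singleton PUnit.{u + 2} Λ)
    projective_free Λ i.1.2 _
  unfold cover
  infer_instance

theorem eq_of_forall_wc {F G : EtModW.ModP Λ X} {a b : F ⟶ G}
    (h : ∀ W : X.ProEt, ProEtS.IsWC W → a.hom.app (op W) = b.hom.app (op W)) : a = b := by
  refine Sheaf.hom_ext (NatTrans.ext (funext fun ⟨U⟩ => ModuleCat.hom_ext (LinearMap.ext fun x => ?_)))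
  obtain ⟨V, g, hg, hV⟩ := GrothLib.ProEtS.exists_cover_isWC U
  refine Sheaf.isSeparated G U _ hg _ _ fun Y k hk => ?_
  obtain ⟨_, r, _, hp, hk⟩ := hk
  cases hp
  subst hk
  have e : ∀ c : F ⟶ G, G.obj.map g.op (c.hom.app (op U) x) = c.hom.app (op V) (F.obj.map g.op x) := fun c =>
    (NatTrans.naturality_apply c.hom g.op x).symm
  simp only [op_comp, Functor.map_comp, ConcreteCategory.comp_apply]
  exact congrArg (G.obj.map r.op) ((e a).trans ((congrArg (fun φ => φ (F.obj.map g.op x)) (h V hV)).trans (e b).symm))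

instance epi_coverπ (F : EtModW.ModP Λ X) : Epi (coverπ Λ F) := ⟨fun {G} a b h => by
  refine eq_of_forall_wc Λ fun W hW => ModuleCat.hom_ext (LinearMap.ext fun x => ?_)
  have := congrArg (fun φ => Sigma.ι (fun i : CoverIdx Λ F => (free Λ i.1.1).obj (one Λ)) ⟨⟨W, hW⟩, x⟩ ≫ φ) h
  simp only [coverπ, colimit.ι_desc_assoc, Cofan.mk_ι_app] at this
  have := congrArg (freeOneEquiv Λ W G) this
  rw [freeOneEquiv_comp, freeOneEquiv_comp] at this
  have e := Equiv.apply_symm_apply (freeOneEquiv Λ W F) x
  exact ((congrArg (fun y => a.hom.app (op W) y) e).symm.trans this).trans (congrArg (fun y => b.hom.app (op W) y) e)⟩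

theorem isZero_of_forall_wc {F : EtModW.ModP Λ X}
    (h : ∀ W : X.ProEt, ProEtS.IsWC W → ∀ x : F.obj.obj (op W), x = 0) : IsZero F := by
  rw [IsZero.iff_id_eq_zero]
  exact eq_of_forall_wc Λ fun W hW => ModuleCat.hom_ext (LinearMap.ext fun x => h W hW x)

end GrothLib.ProEtDC7
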