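import Groth.Agent.Lib.ProEtDC7.Seq
import Mathlib.Algebra.Order.Antidiag.Pi
import Mathlib.RingTheory.MvPolynomial.Homogeneous
import Mathlib.RingTheory.Polynomial.Basic
import Mathlib.Algebra.Order.Sub.Basic
import Mathlib.Algebra.Order.Pi

/-!
# Summation of power series with coefficients in a derived complete module
-/

set_option autoImplicit false
set_option linter.unusedSimpArgs false
universe u v w

namespace GrothLib.ProEtDC7

open scoped Classical

variable {R : Type u} [CommRing R]

section One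

variable (f : R) {M : Type v} [AddCommGroup M] [Module R M] (h : DC f M)

/-- The sum `∑ f ^ n • s n`. -/
noncomputable def sum1 : (ℕ → M) →ₗ[R] M :=
  (LinearMap.proj 0).comp (LinearEquiv.ofBijective (phi f M) h).symm.toLinearMap

theorem sum1_phi (u : ℕ → M) : sum1 f h (phi f M u) = u 0 :=
  congrFun ((LinearEquiv.ofBijective (phi f M) h).symm_apply_apply u) 0

/-- Shift a sequence to the right. -/
def shift (m : ℕ) (s : ℕ → M) : ℕ → M := fun j => if m ≤ j then s (j - m) else 0

theorem sum1_shift (m : ℕ) (s : ℕ → M) : sum1 f h (shift m s) = f ^ m • sum1 f h s := by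
  induction m with
  | zero =>
    rw [pow_zero, one_smul]
    exact congrArg _ (funext fun j => by simp [shift])
  | succ m ih =>
    obtain ⟨u, hu⟩ := h.2 (shift m s)
    let v : ℕ → M := fun j => if j = 0 then f • u 0 else u (j - 1)
    have : phi f M v = shift (m + 1) s := funext fun j => by
      rcases j with - | j
      · simp [v, shift]
      · have := congrFun hu j
        simp only [phi_apply] at this
        simpa [v, shift] using this
    rw [← this, sum1_phi, pow_succ', mul_smul, ← ih, ← hu, sum1_phi]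
    simp [v]

theorem sum1_single (m : M) : sum1 f h (fun j => if j = 0 then m else 0) = m := by
  have : phi f M (fun j => if j = 0 then m else 0) = fun j => if j = 0 then m else 0 := funext fun j => by simp
  conv_lhs => rw [← this]
  rw [sum1_phi, if_pos rfl]

theorem sum1_natural {N : Type w} [AddCommGroup N] [Module R N] (φ : M →ₗ[R] N) (hN : DC f N) (s : ℕ → M) :
    φ (sum1 f h s) = sum1 f hN fun j => φ (s j) := by
  obtain ⟨u, rfl⟩ := h.2 s
  rw [sum1_phi, ← phi_comp, sum1_phi]

end One

variable {r : ℕ}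

/-- The total degree. -/
def wt (ν : Fin r → ℕ) : ℕ := ∑ i, ν i

/-- The value of a monomial. -/
def mon (a : Fin r → R) (ν : Fin r → ℕ) : R := ∏ i, a i ^ ν i

/-- The monomials of a given degree. -/
noncomputable def layer (r n : ℕ) : Finset (Fin r → ℕ) := Finset.piAntidiag Finset.univ n

theorem mem_layer {n : ℕ} {ν : Fin r → ℕ} : ν ∈ layer r n ↔ wt ν = n := by simp [layer, wt]

theorem wt_add (μ ν : Fin r → ℕ) : wt (μ + ν) = wt μ + wt ν := Finset.sum_add_distrib

theorem mon_add (a : Fin r → R) (μ ν : Fin r → ℕ) : mon a (μ + ν) = mon a μ * mon a ν := by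
  simp [mon, pow_add, Finset.prod_mul_distrib]

theorem sub_add_of_le {μ ν : Fin r → ℕ} (h : μ ≤ ν) : ν - μ + μ = ν := funext fun i => Nat.sub_add_cancel (h i)

theorem add_sub_right (ν μ : Fin r → ℕ) : ν + μ - μ = ν := funext fun i => Nat.add_sub_cancel (ν i) (μ i)

theorem wt_single (i : Fin r) : wt (Pi.single i 1) = 1 := by simp [wt]

theorem mon_single (a : Fin r → R) (i : Fin r) : mon a (Pi.single i 1) = a i := by
  rw [mon, Finset.prod_eq_single i (fun j _ hj => by simp [Pi.single_eq_of_ne hj]) (by simp)]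
  simp

section Many

variable {M : Type v} [AddCommGroup M] [Module R M] {N : Type w} [AddCommGroup N] [Module R N]

/-- The sum `∑ a ^ ν • c ν`. -/
noncomputable def sumM : {r : ℕ} → (a : Fin r → R) → (∀ k, DC (a k) M) → ((Fin r → ℕ) → M) →ₗ[R] M
  | 0, _, _ => LinearMap.proj default
  | r + 1, a, h => (sum1 (a 0) (h 0)).comp (LinearMap.pi fun j =>
      (sumM (Fin.tail a) fun k => h k.succ).comp
        (LinearMap.funLeft R M fun ν' : Fin r → ℕ => (Fin.cons j ν' : Fin (r + 1) → ℕ)))

/-- Multiply a power series by a monomial. -/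
noncomputable def mulMon {A : Type v} [Zero A] (μ : Fin r → ℕ) (c : (Fin r → ℕ) → A) : (Fin r → ℕ) → A :=
  fun ν => if μ ≤ ν then c (ν - μ) else 0

theorem sumM_mulMon : ∀ {r : ℕ} (a : Fin r → R) (h : ∀ k, DC (a k) M) (μ : Fin r → ℕ) (c : (Fin r → ℕ) → M),
    sumM a h (mulMon μ c) = mon a μ • sumM a h c
  | 0, a, h, μ, c => by
    obtain rfl : μ = default := Subsingleton.elim _ _
    simp only [sumM, LinearMap.proj_apply, mulMon, mon, Finset.univ_eq_empty, Finset.prod_empty, one_smul]
    rw [if_pos (show (default : Fin 0 → ℕ) ≤ default from fun i => i.elim0)]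
    congr 1
  | r + 1, a, h, μ, c => by
    have key : ∀ j, sumM (Fin.tail a) (fun k => h k.succ) (fun ν' => mulMon μ c (Fin.cons j ν' : Fin (r + 1) → ℕ)) =
        mon (Fin.tail a) (Fin.tail μ) • shift (μ 0) (fun j' => sumM (Fin.tail a) (fun k => h k.succ)
          (fun ν' => c (Fin.cons j' ν' : Fin (r + 1) → ℕ))) j := fun j => by
      unfold shift
      split_ifs with hj
      · rw [← sumM_mulMon]
        congr 1
        funext ν'
        have hle : μ ≤ (Fin.cons j ν' : Fin (r + 1) → ℕ) ↔ Fin.tail μ ≤ ν' := by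
          refine ⟨fun hh i => by simpa using! hh i.succ, fun hh => Fin.cases (by simpa using! hj) fun i => by simpa using! hh i⟩
        simp only [mulMon, hle]
        refine if_congr Iff.rfl (congrArg c ?_) rfl
        funext i
        refine Fin.cases ?_ (fun i => ?_) i <;> simp [Fin.tail]
      · rw [smul_zero, ← map_zero (sumM (Fin.tail a) fun k => h k.succ)]
        congr 1
        funext ν'
        exact if_neg fun hh => hj (by simpa using! hh 0)
    simp only [sumM, LinearMap.comp_apply]
    let L := LinearMap.pi fun j => (sumM (Fin.tail a) fun k => h k.succ).comp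
      (LinearMap.funLeft R M fun ν' : Fin r → ℕ => (Fin.cons j ν' : Fin (r + 1) → ℕ))
    have e : L (mulMon μ c) = mon (Fin.tail a) (Fin.tail μ) • shift (μ 0) (L c) := funext key
    show sum1 (a 0) (h 0) (L (mulMon μ c)) = mon a μ • sum1 (a 0) (h 0) (L c)
    rw [e, map_smul, sum1_shift, smul_smul]
    congr 1
    simp only [mon, Fin.prod_univ_succ, Fin.tail]
    ring

theorem sumM_single : ∀ {r : ℕ} (a : Fin r → R) (h : ∀ k, DC (a k) M) (m : M),
    sumM a h (fun ν => if ν = 0 then m else 0) = m
  | 0, a, h, m => by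
    simp only [sumM, LinearMap.proj_apply]
    exact if_pos (Subsingleton.elim (α := Fin 0 → ℕ) _ _)
  | r + 1, a, h, m => by
    simp only [sumM, LinearMap.comp_apply]
    refine (congrArg (sum1 (a 0) (h 0)) ?_).trans (sum1_single (a 0) (h 0) m)
    funext j
    show sumM (Fin.tail a) _ (fun ν' => if (Fin.cons j ν' : Fin (r + 1) → ℕ) = 0 then m else 0) = _
    split_ifs with hj
    · subst hj
      refine (congrArg _ ?_).trans (sumM_single (Fin.tail a) _ m)
      funext ν'
      refine if_congr ⟨fun hh => funext fun i => by simpa using! congrFun hh i.succ,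
        fun hh => funext fun i => by refine Fin.cases ?_ (fun i => ?_) i <;> simp [hh]⟩ rfl rfl
    · refine Eq.trans (congrArg _ (funext fun ν' => ?_)) (map_zero _)
      exact if_neg fun hh : (Fin.cons j ν' : Fin (r + 1) → ℕ) = 0 => hj (by simpa using! congrFun hh 0)

theorem sumM_natural : ∀ {r : ℕ} (a : Fin r → R) (h : ∀ k, DC (a k) M) (hN : ∀ k, DC (a k) N) (φ : M →ₗ[R] N)
    (c : (Fin r → ℕ) → M), φ (sumM a h c) = sumM a hN fun ν => φ (c ν)
  | 0, _, _, _, _, _ => by simp only [sumM, LinearMap.proj_apply]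
  | r + 1, a, h, hN, φ, c => by
    simp only [sumM, LinearMap.comp_apply, sum1_natural (a 0) (h 0) φ (hN 0)]
    exact congrArg _ (funext fun j => sumM_natural (Fin.tail a) _ _ φ _)

variable (a : Fin r → R)

/-- Multiply by a homogeneous polynomial of degree `d`. -/
noncomputable def pmul (d : ℕ) (G : (Fin r → ℕ) → R) (w : (Fin r → ℕ) → M) : (Fin r → ℕ) → M :=
  ∑ σ ∈ layer r d, G σ • mulMon σ w

theorem sumM_pmul (h : ∀ k, DC (a k) M) (d : ℕ) (G : (Fin r → ℕ) → R) (w : (Fin r → ℕ) → M) :
    sumM a h (pmul d G w) = (∑ σ ∈ layer r d, G σ * mon a σ) • sumM a h w := by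
  simp [pmul, map_sum, sumM_mulMon, Finset.sum_smul, smul_smul]

theorem pmul_apply (d : ℕ) (G : (Fin r → ℕ) → R) (w : (Fin r → ℕ) → M) (ν : Fin r → ℕ) :
    pmul d G w ν = ∑ σ ∈ layer r d, G σ • if σ ≤ ν then w (ν - σ) else 0 := by
  simp [pmul, mulMon, Finset.sum_apply]

/-- The partial sums of a power series. -/
noncomputable def partialSum (c : (Fin r → ℕ) → M) (n : ℕ) : M :=
  ∑ k ∈ Finset.range n, ∑ ν ∈ layer r k, mon a ν • c ν

/-- A power series whose partial sums lie deeper and deeper in the filtration has sum zero. -/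
theorem sumM_eq_zero {C : Type v} [AddCommGroup C] [Module R C] (h : ∀ k, DC (a k) M) (g : C →ₗ[R] M)
    {k : ℕ} (d : Fin k → ℕ) (G : Fin k → (Fin r → ℕ) → R)
    (hG : ∀ j, ∑ σ ∈ layer r (d j), G j σ * mon a σ = 0)
    (hsyz : ∀ z : (Fin r → ℕ) → C, (∀ n, ∑ ν ∈ layer r n, mon a ν • z ν = 0) →
      ∃ w : Fin k → (Fin r → ℕ) → C, z = ∑ j, pmul (d j) (G j) (w j))
    (c : (Fin r → ℕ) → C) (hc : ∀ n, ∃ e : (Fin r → ℕ) → C, partialSum a c n = ∑ ν ∈ layer r n, mon a ν • e ν) :
    sumM a h (fun ν => g (c ν)) = 0 := by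
  classical
  choose e' he' using hc
  let e : (Fin r → ℕ) → C := fun ν => if wt ν = 0 then 0 else e' (wt ν) ν
  have he : ∀ n, partialSum a c n = ∑ ν ∈ layer r n, mon a ν • e ν := fun n => by
    rcases Nat.eq_zero_or_pos n with hn | hn
    · subst hn
      simp only [partialSum, Finset.range_zero, Finset.sum_empty]
      refine (Finset.sum_eq_zero fun ν hν => ?_).symm
      simp [e, mem_layer.1 hν]
    · rw [he']
      refine Finset.sum_congr rfl fun ν hν => ?_
      simp [e, mem_layer.1 hν, hn.ne']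
  let first : (Fin r → ℕ) → Option (Fin r) := fun μ => Fin.find? fun i => μ i ≠ 0
  let d' : Fin r → (Fin r → ℕ) → C := fun i ν => if first (ν + Pi.single i 1) = some i then e (ν + Pi.single i 1) else 0
  have hd' : ∀ μ, ∑ i, mulMon (Pi.single i 1) (d' i) μ = e μ := fun μ => by
    cases hf : first μ with
    | none =>
      have h0 : ∀ i, μ i = 0 := fun i => by simpa using Fin.find?_eq_none_iff.1 hf i
      rw [Finset.sum_eq_zero fun i _ => by
        simp only [mulMon]
        exact if_neg fun hle => by simpa [h0 i] using hle i]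
      simp [e, wt, h0]
    | some i₀ =>
      have hi₀ : μ i₀ ≠ 0 := by simpa using (Fin.find?_eq_some_iff.1 hf).1
      have hle : ∀ i, Pi.single i 1 ≤ μ ↔ μ i ≠ 0 := fun i => by
        refine ⟨fun hle => by have := hle i; simp at this; omega, fun hi j => ?_⟩
        rcases eq_or_ne j i with rfl | hne
        · simp; omega
        · simp [Pi.single_eq_of_ne hne]
      rw [Finset.sum_eq_single i₀ (fun i _ hi => ?_) (by simp)]
      · simp [mulMon, if_pos ((hle i₀).2 hi₀), d', sub_add_of_le ((hle i₀).2 hi₀), hf]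
      · simp only [mulMon]
        split_ifs with hh
        · simp [d', sub_add_of_le hh, hf, hi.symm]
        · rfl
  let z : (Fin r → ℕ) → C := c + e - ∑ i, a i • d' i
  have hz : ∀ n, ∑ ν ∈ layer r n, mon a ν • z ν = 0 := fun n => by
    have h1 : ∑ ν ∈ layer r n, mon a ν • (∑ i, a i • d' i ν) = ∑ μ ∈ layer r (n + 1), mon a μ • e μ := by
      simp only [← hd', Finset.smul_sum]
      rw [Finset.sum_comm, Finset.sum_comm (s := layer r (n + 1))]
      refine Finset.sum_congr rfl fun i _ => ?_
      simp only [mulMon, smul_ite, smul_zero]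
      rw [← Finset.sum_filter]
      refine Finset.sum_bij' (fun ν _ => ν + Pi.single i 1) (fun μ _ => μ - Pi.single i 1) (fun ν hν => ?_)
        (fun μ hμ => ?_) (fun ν _ => ?_) (fun μ hμ => ?_) fun ν _ => ?_
      · exact Finset.mem_filter.2 ⟨mem_layer.2 (by rw [wt_add, wt_single, mem_layer.1 hν]), fun j => Nat.le_add_left _ _⟩
      · obtain ⟨hμ, hle⟩ := Finset.mem_filter.1 hμ
        refine mem_layer.2 ?_
        have := wt_add (μ - Pi.single i 1) (Pi.single i 1)
        rw [sub_add_of_le hle, wt_single, mem_layer.1 hμ] at this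
        omega
      · exact add_sub_right _ _
      · exact sub_add_of_le (Finset.mem_filter.1 hμ).2
      · rw [mon_add, mon_single, smul_smul, add_sub_right]
    simp only [z, Pi.sub_apply, Pi.add_apply, Finset.sum_apply, Pi.smul_apply, smul_sub, smul_add,
      Finset.sum_sub_distrib, Finset.sum_add_distrib, h1, ← he]
    simp [partialSum, Finset.sum_range_succ, add_comm]
  obtain ⟨w, hw⟩ := hsyz z hz
  have hgz : sumM a h (fun ν => g (z ν)) = 0 := by
    have : (fun ν => g (z ν)) = ∑ j, pmul (d j) (G j) (fun μ => g (w j μ)) := funext fun ν => by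
      simp [hw, Finset.sum_apply, pmul_apply, map_sum, map_smul, apply_ite g]
    rw [this, map_sum]
    exact Finset.sum_eq_zero fun j _ => by rw [sumM_pmul, hG, zero_smul]
  have hgc : (fun ν => g (c ν)) = (fun ν => g (z ν)) - ∑ i, mulMon (Pi.single i 1) (fun ν => g (d' i ν)) +
      ∑ i, a i • fun ν => g (d' i ν) := funext fun ν => by
    have : ∀ i, mulMon (Pi.single i 1) (fun ν => g (d' i ν)) ν = g (mulMon (Pi.single i 1) (d' i) ν) := fun i => by
      simp [mulMon, apply_ite g]
    simp only [Pi.add_apply, Pi.sub_apply, Finset.sum_apply, this, Pi.smul_apply, ← map_sum, hd', z, map_sub,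
      map_add, ← map_smul]
    abel
  rw [hgc, map_add, map_sub, hgz, map_sum, map_sum]
  simp [sumM_mulMon, mon_single]

end Many

/-- Finitely many homogeneous relations generate all of them. -/
theorem exists_syzygies [IsNoetherianRing R] (a : Fin r → R) :
    ∃ (k : ℕ) (d : Fin k → ℕ) (G : Fin k → (Fin r → ℕ) → R), (∀ j, ∑ σ ∈ layer r (d j), G j σ * mon a σ = 0) ∧
      ∀ (n : ℕ) (v : (Fin r → ℕ) → R), ∑ ν ∈ layer r n, v ν * mon a ν = 0 →
        ∃ w : Fin k → (Fin r → ℕ) → R, ∀ ν ∈ layer r n, v ν = ∑ j, pmul (d j) (G j) (w j) ν := by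
  classical
  let toF : (Fin r → ℕ) → (Fin r →₀ ℕ) := Finsupp.equivFunOnFinite.symm
  let K : Set (MvPolynomial (Fin r) R) := {P | ∃ d, P.IsHomogeneous d ∧ MvPolynomial.eval a P = 0}
  obtain ⟨T, hT, hspan⟩ := Submodule.fg_span_iff_fg_span_finset_subset K |>.1 (IsNoetherian.noetherian (Ideal.span K))
  let P : Fin T.card → MvPolynomial (Fin r) R := fun j => (T.equivFin.symm j).1
  choose d hd he using fun j => hT (T.equivFin.symm j).2
  have heval : ∀ (n : ℕ) (v : (Fin r → ℕ) → R),
      MvPolynomial.eval a (∑ ν ∈ layer r n, MvPolynomial.monomial (toF ν) (v ν)) = ∑ ν ∈ layer r n, v ν * mon a ν := by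
    intro n v
    simp [map_sum, MvPolynomial.eval_monomial, mon, toF, Finsupp.prod_fintype]
  have hP : ∀ j, P j = ∑ σ ∈ layer r (d j), MvPolynomial.monomial (toF σ) ((P j).coeff (toF σ)) := fun j => by
    ext m
    rw [MvPolynomial.coeff_sum]
    simp only [MvPolynomial.coeff_monomial]
    by_cases hm : wt (m : Fin r → ℕ) = d j
    · rw [Finset.sum_eq_single (m : Fin r → ℕ) (fun σ _ hσ => if_neg fun h => hσ (by rw [← h]; rfl))
        (fun h => (h (mem_layer.2 hm)).elim)]
      simp [toF]
    · rw [Finset.sum_eq_zero fun σ hσ => if_neg fun h => hm (by rw [← h]; exact mem_layer.1 hσ)]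
      refine (hd j).coeff_eq_zero ?_
      rw [Finsupp.degree_eq_sum]
      exact hm
  refine ⟨T.card, d, fun j σ => (P j).coeff (toF σ), fun j => ?_, fun n v hv => ?_⟩
  · rw [← heval, ← hP]
    exact he j
  · let V := ∑ ν ∈ layer r n, MvPolynomial.monomial (toF ν) (v ν)
    have hV : V ∈ Submodule.span (MvPolynomial (Fin r) R) (T : Set (MvPolynomial (Fin r) R)) := by
      rw [← hspan]
      refine Submodule.subset_span ⟨n, ?_, (heval n v).trans hv⟩
      refine MvPolynomial.IsHomogeneous.sum _ _ _ fun ν hν => MvPolynomial.isHomogeneous_monomial _ ?_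
      rw [Finsupp.degree_eq_sum]
      exact mem_layer.1 hν
    have hr : Set.range P = (T : Set (MvPolynomial (Fin r) R)) := Set.ext fun x =>
      ⟨by rintro ⟨j, rfl⟩; exact (T.equivFin.symm j).2, fun hx => ⟨T.equivFin ⟨x, hx⟩, by simp [P]⟩⟩
    rw [← hr, Submodule.mem_span_range_iff_exists_fun] at hV
    obtain ⟨q, hq⟩ := hV
    refine ⟨fun j μ => (q j).coeff (toF μ), fun ν hν => ?_⟩
    have h1 : V.coeff (toF ν) = v ν := by
      rw [MvPolynomial.coeff_sum, Finset.sum_eq_single ν (fun σ _ hσ => ?_) (fun h => (h hν).elim)]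
      · simp
      · rw [MvPolynomial.coeff_monomial, if_neg fun h => hσ (Finsupp.equivFunOnFinite.symm.injective h)]
    rw [← h1, ← hq, MvPolynomial.coeff_sum]
    refine Finset.sum_congr rfl fun j _ => ?_
    rw [smul_eq_mul, mul_comm]
    conv_lhs => rw [hP j]
    rw [Finset.sum_mul, MvPolynomial.coeff_sum, pmul_apply]
    refine Finset.sum_congr rfl fun σ _ => ?_
    rw [MvPolynomial.coeff_monomial_mul']
    have hle : toF σ ≤ toF ν ↔ σ ≤ ν := ⟨fun h i => by simpa [toF] using h i, fun h i => by simpa [toF] using h i⟩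
    simp only [hle, smul_eq_mul, mul_ite, mul_zero]
    refine if_congr Iff.rfl (congrArg (fun m => (P j).coeff (toF σ) * (q j).coeff m) ?_) rfl
    ext i
    simp [toF]

theorem span_mon_eq_pow (a : Fin r → R) : ∀ n : ℕ,
    Ideal.span (mon a '' (layer r n : Set (Fin r → ℕ))) = Ideal.span (Set.range a) ^ n
  | 0 => by
    rw [pow_zero, Ideal.one_eq_top, Ideal.eq_top_iff_one]
    exact Ideal.subset_span ⟨0, mem_layer.2 (by simp [wt]), by simp [mon]⟩
  | n + 1 => by
    classical
    rw [pow_succ, ← span_mon_eq_pow a n, Ideal.span_mul_span']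
    refine le_antisymm (Ideal.span_mono ?_) (Ideal.span_mono ?_)
    · rintro _ ⟨μ, hμ, rfl⟩
      have hμ' := mem_layer.1 hμ
      obtain ⟨i, -, hi⟩ := Finset.exists_ne_zero_of_sum_ne_zero (s := Finset.univ) (f := μ) (by rw [← wt, hμ']; omega)
      have hle : Pi.single i 1 ≤ μ := fun j => by
        rcases eq_or_ne j i with rfl | hne
        · simp; omega
        · simp [Pi.single_eq_of_ne hne]
      refine ⟨mon a (μ - Pi.single i 1), ⟨_, mem_layer.2 ?_, rfl⟩, a i, ⟨i, rfl⟩, ?_⟩
      · have := wt_add (μ - Pi.single i 1) (Pi.single i 1)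
        rw [sub_add_of_le hle, wt_single, hμ'] at this
        omega
      · show mon a (μ - Pi.single i 1) * a i = mon a μ
        rw [← mon_single a i, ← mon_add, sub_add_of_le hle]
    · rintro _ ⟨_, ⟨ν, hν, rfl⟩, _, ⟨i, rfl⟩, rfl⟩
      exact ⟨ν + Pi.single i 1, mem_layer.2 (by rw [wt_add, wt_single, mem_layer.1 hν]),
        by rw [mon_add, mon_single]⟩

end GrothLib.ProEtDC7
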